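import Cfsg.Agent.Lib.Fusion.NormalCent.Disp
import Mathlib.GroupTheory.GroupAction.Quotient

/-!
# Adjusting `x` so that all automorphisms of a normal subgroup fix it
-/

set_option autoImplicit false

namespace CfsgLib.NormalCent

open Cfsg Cfsg.FusionSystem CfsgLib.Fusion
open scoped IsMulCommutative Pointwise

variable {Ω : Type*} [Group Ω] {S T : Subgroup Ω} {F : Cfsg.FusionSystem S} {E : Cfsg.FusionSystem T}
variable {P Q R : Subgroup Ω} {p : ℕ} {x : Ω}

/-- `α` extends over `C_S(T)` near the identity, sending `x` to `x z`. -/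
def DispW (F : Cfsg.FusionSystem S) (C : Subgroup Ω) (x : Ω) {Q : Subgroup Ω} (α : MulAut Q)
    (z : Subgroup.center Q) : Prop :=
  ∃ ψ ∈ F.Hom (Q ⊔ C), (∀ q : Q, ψ (Subgroup.inclusion le_sup_left q) = α q) ∧
    (∀ c : C, (c : Ω)⁻¹ * ψ (Subgroup.inclusion le_sup_right c) ∈ Q ⊓ Subgroup.centralizer (Q : Set Ω)) ∧
    ∀ hx : x ∈ C, ψ (Subgroup.inclusion le_sup_right ⟨x, hx⟩) = x * (z : Q)

theorem exists_dispW {C : Subgroup Ω} (hx : x ∈ C) {α : MulAut Q} (h : α ∈ Near F C Q) :
    ∃ z, DispW F C x α z := by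
  obtain ⟨ψ, hψ, h1, h2⟩ := h
  obtain ⟨z, hz⟩ := exists_center_of_mem (h2 ⟨x, hx⟩)
  exact ⟨z, ψ, hψ, h1, h2, fun hx' => by rw [hz, mul_inv_cancel_left]⟩

theorem disp_of_dispW {C : Subgroup Ω} (hx : x ∈ C) {α : MulAut Q} {z : Subgroup.center Q}
    (h : DispW F C x α z) : Disp F x α z := by
  obtain ⟨ψ, hψ, h1, -, h3⟩ := h
  exact ⟨_, restrict_mem hψ (sup_le_sup_left (Subgroup.zpowers_le.2 hx) Q), fun q => h1 q, h3 hx⟩

/-- **Stability**: the displacement is fixed by the stabilizing elements of `T`. -/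
theorem dispW_stable [Finite S] [Fact p.Prime] (hS : IsPGroup p S) (hF : F.IsSaturated p)
    (hE : E.IsNormalIn F p) (hQT : Q ≤ T) (hQS : S ≤ Subgroup.normalizer (Q : Set Ω))
    (hx : x ∈ centralizerIn S T) {α : MulAut Q} {z : Subgroup.center Q}
    (hz : DispW F (centralizerIn S T) x α z) {t t' : Ω} (ht : t ∈ T) (ht' : t' ∈ T)
    (htN : t ∈ Subgroup.normalizer (Q : Set Ω)) (ht'N : t' ∈ Subgroup.normalizer (Q : Set Ω))
    (hcomm : conjAut Q t htN * α = α * conjAut Q t' ht'N) :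
    actC Q (conjAut Q t htN) z = z := by
  classical
  have hTS := normal_le hE
  have hQS' : Q ≤ S := hQT.trans hTS
  obtain ⟨C, hCdef⟩ : ∃ C, C = centralizerIn S T := ⟨_, rfl⟩
  rw [← hCdef] at hz hx
  obtain ⟨ψ, hψ, hψQ, hψC, hψx⟩ := hz
  let W : Subgroup Ω := Q ⊔ C
  have hWS : W ≤ S := sup_le hQS' (hCdef ▸ centralizerIn_le S T)
  haveI : Finite W := finite_of_le hWS
  haveI : Finite Q := finite_of_le hQS'
  haveI : Finite (MulAut W) := finite_mulAut
  have hCQ : ∀ c ∈ C, ∀ q ∈ Q, c * q = q * c := fun c hc q hq =>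
    (Subgroup.mem_centralizer_iff.1 (hCdef ▸ hc : c ∈ centralizerIn S T).2 q (hQT hq)).symm
  have hTC : ∀ g ∈ T, ∀ c ∈ C, g * c = c * g := fun g hg c hc =>
    Subgroup.mem_centralizer_iff.1 (hCdef ▸ hc : c ∈ centralizerIn S T).2 g hg
  -- `S` normalizes `W`
  have hSW : S ≤ Subgroup.normalizer (W : Set Ω) := by
    have key : ∀ g ∈ S, ∀ w ∈ W, g * w * g⁻¹ ∈ W := by
      intro g hg w hw
      have hle : W ≤ W.comap (MulAut.conj g).toMonoidHom := sup_le
        (fun q hq => Subgroup.mem_sup_left ((Subgroup.mem_normalizer_iff.1 (hQS hg) q).1 hq))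
        fun c hc => Subgroup.mem_sup_right (hCdef.symm ▸ ⟨S.mul_mem (S.mul_mem hg
          (hCdef ▸ hc : c ∈ centralizerIn S T).1) (S.inv_mem hg),
          Subgroup.mem_centralizer_iff.2 fun u hu => by
            show u * (g * c * g⁻¹) = g * c * g⁻¹ * u
            have hu' : g⁻¹ * u * g ∈ T := by
              simpa using (Subgroup.mem_normalizer_iff.1
                (stronglyClosed_le_normalizer (normal_strong hE) (S.inv_mem hg)) u).1 hu
            have h := hTC _ hu' c hc
            calc u * (g * c * g⁻¹) = g * (g⁻¹ * u * g * c) * g⁻¹ := by group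
              _ = g * (c * (g⁻¹ * u * g)) * g⁻¹ := by rw [h]
              _ = g * c * g⁻¹ * u := by group⟩)
      exact hle hw
    intro g hg
    rw [Subgroup.mem_normalizer_iff]
    refine fun w => ⟨key g hg w, fun hw => ?_⟩
    have := key g⁻¹ (S.inv_mem hg) _ hw
    simpa [mul_assoc] using this
  have hWfn : F.IsFullyNormalized W := ⟨hWS, fun R _ => by
    have h : normalizerIn S W = S := le_antisymm (normalizerIn_le S W) (le_inf le_rfl hSW)
    rw [h]
    exact Nat.card_le_card_of_injective _ (Subgroup.inclusion_injective (normalizerIn_le S R))⟩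
  obtain ⟨PS, hPS⟩ := (isFullyAutomized_of_isFullyNormalized hS hF hWfn).2
  -- the automorphism `a` of `W`
  have hψW : ∀ w, ψ w ∈ W := apply_mem_sup
    (fun q => by rw [hψQ]; exact Subgroup.mem_sup_left (α q).2)
    fun c => by
      have := mul_mem (Subgroup.mem_sup_right (S := Q) c.2) (Subgroup.mem_sup_left (T := C) (hψC c).1)
      rwa [mul_inv_cancel_left] at this
  obtain ⟨a, ha, haψ⟩ := exists_aut hψ (range_eq_of_le (hom_inj hψ) hψW)
  let incQ : Q → W := fun q => Subgroup.inclusion le_sup_left q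
  let incC : C → W := fun c => Subgroup.inclusion le_sup_right c
  have haQ : ∀ q : Q, a (incQ q) = incQ (α q) := fun q => Subtype.ext ((haψ _).trans (hψQ q))
  have haQ' : ∀ q : Q, a.symm (incQ q) = incQ (α.symm q) := fun q => by
    apply a.injective
    rw [MulEquiv.apply_symm_apply, haQ, MulEquiv.apply_symm_apply]
  have hdec : ∀ w : W, ∃ (q : Q) (c : C), w = incQ q * incC c := by
    rintro ⟨w, hw⟩
    have hn : C ≤ Subgroup.normalizer (Q : Set Ω) := (hCdef ▸ centralizerIn_le S T : C ≤ S).trans hQS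
    have hw' : w ∈ ((Q : Set Ω) * (C : Set Ω)) := by
      rw [← Subgroup.coe_mul_of_right_le_normalizer_left Q C hn]
      exact hw
    obtain ⟨q, hq, c, hc, rfl⟩ := Set.mem_mul.1 hw'
    exact ⟨⟨q, hq⟩, ⟨c, hc⟩, rfl⟩
  -- the kernel
  let K : Subgroup (F.autGroup W) :=
    { carrier := {k | (∀ q : Q, (k : MulAut W) (incQ q) = incQ q) ∧
        ∀ c : C, ∃ u : Q, (u : Ω) ∈ Subgroup.centralizer (Q : Set Ω) ∧
          (k : MulAut W) (incC c) = incC c * incQ u}
      one_mem' := ⟨fun q => rfl, fun c => ⟨1, Subgroup.one_mem _, by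
        rw [show incQ 1 = 1 from rfl, mul_one]; rfl⟩⟩
      mul_mem' := fun {k l} hk hl => ⟨fun q => by
        rw [Subgroup.coe_mul, MulAut.mul_apply, hl.1, hk.1],
        fun c => by
          obtain ⟨u, hu, hu'⟩ := hk.2 c
          obtain ⟨v, hv, hv'⟩ := hl.2 c
          refine ⟨u * v, mul_mem hu hv, ?_⟩
          rw [Subgroup.coe_mul, MulAut.mul_apply, hv', map_mul, hu', hk.1, mul_assoc]
          rfl⟩
      inv_mem' := fun {k} hk => ⟨fun q => by
        rw [Subgroup.coe_inv]
        conv_lhs => rw [← hk.1 q]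
        exact MulAut.inv_apply_self _ _ _,
        fun c => by
          obtain ⟨u, hu, hu'⟩ := hk.2 c
          refine ⟨u⁻¹, Subgroup.inv_mem _ hu, ?_⟩
          rw [Subgroup.coe_inv]
          apply (k : MulAut W).injective
          rw [MulAut.apply_inv_self, map_mul, hu', hk.1, mul_assoc]
          show _ = incC c * (incQ (u * u⁻¹))
          rw [mul_inv_cancel]
          exact (mul_one _).symm⟩ }
  have hKp : IsPGroup p K := by
    intro k
    obtain ⟨n, hn⟩ := (IsPGroup.iff_card (p := p)).1 (isPGroup_of_le hS hQS')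
    refine ⟨n, Subtype.ext (Subtype.ext (MulEquiv.ext fun w => ?_))⟩
    obtain ⟨q, c, rfl⟩ := hdec w
    obtain ⟨hkQ, hkC⟩ := k.2
    obtain ⟨u, -, hu'⟩ := hkC c
    have hpow : ∀ m : ℕ, ((k : F.autGroup W) : MulAut W) ^ m = 1 ∨
        (((k : F.autGroup W) : MulAut W) ^ m) (incQ q * incC c) = incQ q * incC c * incQ (u ^ m) := by
      intro m
      right
      induction m with
      | zero => rw [pow_zero, pow_zero]; exact (mul_one _).symm
      | succ m ih =>
        rw [pow_succ', MulAut.mul_apply, ih, map_mul, map_mul, hkQ, hkQ, hu', pow_succ' u, mul_assoc,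
          mul_assoc, mul_assoc]
        rfl
    rcases hpow (p ^ n) with h | h
    · rw [SubmonoidClass.coe_pow, SubmonoidClass.coe_pow, h]
      rfl
    · rw [SubmonoidClass.coe_pow, SubmonoidClass.coe_pow, h,
        show u ^ p ^ n = 1 by rw [← hn]; exact pow_card_eq_one', show incQ 1 = 1 from rfl, mul_one]
      rfl
  -- elements stabilizing `Q` normalize `K`
  have hKnorm : ∀ b : F.autGroup W, (∀ q : Q, ∃ r : Q, (b : MulAut W) (incQ q) = incQ r) →
      ∀ k ∈ K, b * k * b⁻¹ ∈ K := by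
    intro b hb k hk
    haveI : Finite ↥((incQ '' Set.univ)) := Set.Finite.to_subtype (Set.toFinite _)
    choose σ hσ using hb
    have hσinj : Function.Injective σ := fun q q' h => by
      have h1 : (b : MulAut W) (incQ q) = (b : MulAut W) (incQ q') := by rw [hσ, hσ, h]
      exact Subgroup.inclusion_injective _ ((b : MulAut W).injective h1)
    have hbinv : ∀ q : Q, ∃ r : Q, ((b : MulAut W)⁻¹) (incQ q) = incQ r ∧ σ r = q := fun q => by
      obtain ⟨r, rfl⟩ := (Finite.injective_iff_surjective.1 hσinj) q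
      exact ⟨r, by rw [← hσ, MulAut.inv_apply_self], rfl⟩
    refine ⟨fun q => ?_, fun c => ?_⟩
    · obtain ⟨r, hr, hrq⟩ := hbinv q
      rw [Subgroup.coe_mul, Subgroup.coe_mul, Subgroup.coe_inv, MulAut.mul_apply, MulAut.mul_apply,
        hr, hk.1, hσ, hrq]
    · obtain ⟨r, d, hrd⟩ := hdec (((b : MulAut W)⁻¹) (incC c))
      obtain ⟨u, hu, hu'⟩ := hk.2 d
      have hcen : ∀ v : Q, ((σ u : Q) : Ω) * v = v * (σ u : Q) := fun v => by
        obtain ⟨v', rfl⟩ := (Finite.injective_iff_surjective.1 hσinj) v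
        have h : incQ u * incQ v' = incQ v' * incQ u :=
          Subtype.ext (Subgroup.mem_centralizer_iff.1 hu v' v'.2).symm
        have h' := congrArg (b : MulAut W) h
        rw [map_mul, map_mul, hσ, hσ] at h'
        exact congrArg Subtype.val h'
      refine ⟨σ u, Subgroup.mem_centralizer_iff.2 fun v hv => (hcen ⟨v, hv⟩).symm, ?_⟩
      rw [Subgroup.coe_mul, Subgroup.coe_mul, Subgroup.coe_inv, MulAut.mul_apply, MulAut.mul_apply, hrd,
        map_mul (k : MulAut W), hk.1, hu', ← mul_assoc, ← hrd, map_mul, MulAut.apply_inv_self, hσ]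
  -- `K` lies in `Aut_S(W)`
  have hKS : K ≤ (PS : Subgroup (F.autGroup W)) := by
    have hnorm : (PS : Subgroup (F.autGroup W)) ≤ Subgroup.normalizer (K : Set (F.autGroup W)) := by
      intro b hb
      have hb' : ∀ b' ∈ (PS : Subgroup (F.autGroup W)), ∀ k ∈ K, b' * k * b'⁻¹ ∈ K := by
        intro b' hb'
        refine hKnorm b' fun q => ?_
        rw [hPS] at hb'
        obtain ⟨g, hg, hgS, he⟩ := exists_eq_conjAut (Subgroup.mem_subgroupOf.1 hb')
        refine ⟨⟨g * q * g⁻¹, (Subgroup.mem_normalizer_iff.1 (hQS hgS) q).1 q.2⟩, ?_⟩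
        rw [he]
        exact Subtype.ext rfl
      rw [Subgroup.mem_normalizer_iff]
      refine fun k => ⟨hb' b hb k, fun hk => ?_⟩
      have := hb' b⁻¹ (Subgroup.inv_mem _ hb) _ hk
      simpa [mul_assoc] using this
    have hsup := IsPGroup.to_sup_of_normal_left' hKp PS.isPGroup' hnorm
    exact le_sup_left.trans (PS.is_maximal' hsup le_sup_right).le
  -- `γ = a c_{t'} a⁻¹`
  have ht'W : t' ∈ Subgroup.normalizer (W : Set Ω) := hSW (hTS ht')
  have htW : t ∈ Subgroup.normalizer (W : Set Ω) := hSW (hTS ht)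
  have hmemS : ∀ {g : Ω} (hg : g ∈ S) (hgW : g ∈ Subgroup.normalizer (W : Set Ω)),
      conjAut W g hgW ∈ F.autGroup W := fun hg hgW => (mem_autGroup_iff hWS).2 (isFIso_conjAut hWS hg hgW)
  let A : F.autGroup W := ⟨a, ha⟩
  let Ct' : F.autGroup W := ⟨_, hmemS (hTS ht') ht'W⟩
  let Ct : F.autGroup W := ⟨_, hmemS (hTS ht) htW⟩
  have hfixC : ∀ {g : Ω} (hg : g ∈ T) (hgW : g ∈ Subgroup.normalizer (W : Set Ω)) (c : C),
      conjAut W g hgW (incC c) = incC c := fun {g} hg hgW c => Subtype.ext (by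
    show g * (c : Ω) * g⁻¹ = c
    rw [hTC g hg c c.2, mul_inv_cancel_right])
  have hconjQ : ∀ {g : Ω} (hgQ : g ∈ Subgroup.normalizer (Q : Set Ω))
      (hgW : g ∈ Subgroup.normalizer (W : Set Ω)) (q : Q),
      conjAut W g hgW (incQ q) = incQ (conjAut Q g hgQ q) := fun hgQ hgW q => Subtype.ext rfl
  have hγQ : ∀ q : Q, a (conjAut W t' ht'W (a.symm (incQ q))) = incQ (conjAut Q t htN q) := fun q => by
    rw [haQ', hconjQ ht'N, haQ]
    have h := DFunLike.congr_fun hcomm (α.symm q)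
    rw [MulAut.mul_apply, MulAut.mul_apply, MulEquiv.apply_symm_apply] at h
    rw [← h]
  have hk : A * Ct' * A⁻¹ * Ct⁻¹ ∈ K := by
    refine ⟨fun q => ?_, fun c => ?_⟩
    · show a (conjAut W t' ht'W (a.symm ((conjAut W t htW).symm (incQ q)))) = incQ q
      rw [show (conjAut W t htW).symm (incQ q) = incQ ((conjAut Q t htN).symm q) by
        apply (conjAut W t htW).injective
        rw [MulEquiv.apply_symm_apply, hconjQ htN, MulEquiv.apply_symm_apply], hγQ,
        MulEquiv.apply_symm_apply]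
    · have h0 : (conjAut W t htW).symm (incC c) = incC c := by
        rw [MulEquiv.symm_apply_eq, hfixC ht]
      obtain ⟨r, d, hrd⟩ := hdec (a.symm (incC c))
      refine ⟨α (r⁻¹ * conjAut Q t' ht'N r), ?_, ?_⟩
      · have hrc : (r : Ω) ∈ Subgroup.centralizer (Q : Set Ω) := by
          refine Subgroup.mem_centralizer_iff.2 fun v hv => ?_
          have h1 : a.symm (incQ (α ⟨v, hv⟩)) * a.symm (incC c) =
              a.symm (incC c) * a.symm (incQ (α ⟨v, hv⟩)) := by
            rw [← map_mul, ← map_mul]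
            congr 1
            exact Subtype.ext (hCQ c c.2 _ (α ⟨v, hv⟩).2).symm
          rw [haQ', MulEquiv.symm_apply_apply, hrd] at h1
          have h2 : v * ((r : Ω) * d) = (r : Ω) * d * v := congrArg Subtype.val h1
          rw [mul_assoc (r : Ω), hCQ d d.2 v hv, ← mul_assoc, ← mul_assoc] at h2
          exact mul_right_cancel h2
        have hrc' : ((conjAut Q t' ht'N r : Q) : Ω) ∈ Subgroup.centralizer (Q : Set Ω) :=
          (aut_apply_mem_center (conjAut Q t' ht'N) hrc).2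
        have hu : ((r⁻¹ * conjAut Q t' ht'N r : Q) : Ω) ∈ Subgroup.centralizer (Q : Set Ω) := by
          rw [Subgroup.coe_mul, Subgroup.coe_inv]
          exact mul_mem (Subgroup.inv_mem _ hrc) hrc'
        exact (aut_apply_mem_center α hu).2
      · show a (conjAut W t' ht'W (a.symm ((conjAut W t htW).symm (incC c)))) = _
        rw [h0, hrd, map_mul (conjAut W t' ht'W), hfixC ht', hconjQ ht'N]
        have e1 : incQ (conjAut Q t' ht'N r) * incC d =
            incQ r * incC d * incQ (r⁻¹ * conjAut Q t' ht'N r) := by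
          refine Subtype.ext ?_
          show ((conjAut Q t' ht'N r : Q) : Ω) * d = (r : Ω) * d * ((r⁻¹ * conjAut Q t' ht'N r : Q) : Ω)
          rw [mul_assoc (r : Ω), hCQ d d.2 _ (r⁻¹ * conjAut Q t' ht'N r).2, ← mul_assoc,
            Subgroup.coe_mul, Subgroup.coe_inv, mul_inv_cancel_left]
        rw [e1, map_mul, ← hrd, MulEquiv.apply_symm_apply, haQ]
  have hγS : A * Ct' * A⁻¹ ∈ (PS : Subgroup (F.autGroup W)) := by
    have hCt : Ct ∈ (PS : Subgroup (F.autGroup W)) := by
      rw [hPS]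
      exact conjAut_mem_autInducedBy (hTS ht) htW
    have := mul_mem (hKS hk) hCt
    rwa [inv_mul_cancel_right] at this
  rw [hPS, Subgroup.mem_subgroupOf] at hγS
  -- extend `a` over `t'`
  have hR : W ⊔ Subgroup.zpowers t' ≤ normalizerIn S W :=
    sup_le (le_normalizerIn hWS) (Subgroup.zpowers_le.2 ⟨hTS ht', ht'W⟩)
  have haiso : IsFIso F (a : W ≃* W) := (mem_autGroup_iff hWS).1 ha
  have hle : W ⊔ Subgroup.zpowers t' ≤ extender S W (W.subtype.comp a.toMonoidHom) :=
    sup_le (le_extender hWS fun w => hWS (a w).2) (Subgroup.zpowers_le.2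
      ((mem_extender_iff_congr (a : W ≃* W) (fun _ => rfl) (hTS ht') ht'W).2 hγS))
  obtain ⟨χ, hχ, -, hag⟩ := haiso.exists_extension (isReceptive_of_isFullyNormalized hS hF hWfn)
    (le_sup_left (b := Subgroup.zpowers t')) hR
    fun g hg => (mem_extender_iff_congr _ (fun _ => rfl) (hR hg).1 (hR hg).2).1 (hle hg)
  set t₂ := χ ⟨t', Subgroup.mem_sup_right (Subgroup.mem_zpowers t')⟩ with ht₂
  have ht₂T : t₂ ∈ T := stronglyClosed_apply_mem (normal_strong hE) hχ _ ht'
  have hγeq := congr_conjAut_eq_of_extends le_sup_left hag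
    (Subgroup.mem_sup_right (Subgroup.mem_zpowers t')) ht'W
  have hγx : a (conjAut W t' ht'W (a.symm (incC ⟨x, hx⟩))) = incC ⟨x, hx⟩ := by
    have h := DFunLike.congr_fun hγeq (incC ⟨x, hx⟩)
    rw [congr_apply] at h
    rw [h, hfixC ht₂T]
  -- conclusion
  let u : Q := α.symm (z : Q)
  have hax : a (incC ⟨x, hx⟩ * incQ u⁻¹) = incC ⟨x, hx⟩ := by
    rw [map_mul, haQ, map_inv, MulEquiv.apply_symm_apply]
    refine Subtype.ext ?_
    show ((a (incC ⟨x, hx⟩) : W) : Ω) * (((z : Q) : Ω))⁻¹ = x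
    rw [haψ, hψx hx, mul_inv_cancel_right]
  have hsymm : a.symm (incC ⟨x, hx⟩) = incC ⟨x, hx⟩ * incQ u⁻¹ := by
    rw [MulEquiv.symm_apply_eq, hax]
  rw [hsymm, map_mul, hfixC ht', hconjQ ht'N, map_mul, haQ] at hγx
  have hax' : a (incC ⟨x, hx⟩) * incQ (α u⁻¹) = incC ⟨x, hx⟩ := by
    rw [← haQ, ← map_mul, hax]
  have h1 := hγx.trans hax'.symm
  have h2 : α (conjAut Q t' ht'N u⁻¹) = α u⁻¹ :=
    Subgroup.inclusion_injective _ (mul_left_cancel h1)
  have h3 : conjAut Q t htN (α u⁻¹) = α u⁻¹ :=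
    (DFunLike.congr_fun hcomm u⁻¹).trans h2
  rw [map_inv, MulEquiv.apply_symm_apply, map_inv] at h3
  exact Subtype.ext (inv_injective h3)

/-- **The base case**: some `x d`, `d ∈ Z(T)`, is fixed by extensions of all of `Aut_E(Q)`. -/
theorem exists_adjust [Finite S] [Fact p.Prime] (hS : IsPGroup p S) (hF : F.IsSaturated p)
    (hE : E.IsNormalIn F p) (hQT : Q ≤ T) (hQS : S ≤ Subgroup.normalizer (Q : Set Ω))
    (hnear : ∀ α ∈ E.autGroup Q, α ∈ Near F (centralizerIn S T) Q)
    (hx : x ∈ centralizerIn S T) :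
    ∃ x' ∈ centralizerIn S T, x⁻¹ * x' ∈ T ∧
      ∀ α ∈ E.autGroup Q, α ∈ fixAut F (Subgroup.zpowers x') Q := by
  classical
  have hTS := normal_le hE
  haveI := normal_finite hE
  have hTp : IsPGroup p T := isPGroup_of_le hS hTS
  have hsat := normal_sat hE
  have hQS' : Q ≤ S := hQT.trans hTS
  haveI : Finite Q := finite_of_le hQS'
  haveI : Finite (MulAut Q) := finite_mulAut
  have hQfn : E.IsFullyNormalized Q := ⟨hQT, fun R _ => by
    have h : normalizerIn T Q = T :=
      le_antisymm (normalizerIn_le T Q) (le_inf le_rfl (hTS.trans hQS))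
    rw [h]
    exact Nat.card_le_card_of_injective _ (Subgroup.inclusion_injective (normalizerIn_le T R))⟩
  obtain ⟨P₀, hP₀⟩ := (isFullyAutomized_of_isFullyNormalized hTp hsat hQfn).2
  have hTC : ∀ g ∈ T, g * x = x * g := fun g hg => Subgroup.mem_centralizer_iff.1 hx.2 g hg
  have hP₀mem : ∀ a ∈ (P₀ : Subgroup (E.autGroup Q)), ∃ (g : Ω) (hg : g ∈ Subgroup.normalizer (Q : Set Ω)),
      g ∈ T ∧ (a : MulAut Q) = conjAut Q g hg := fun a ha => by
    rw [hP₀] at ha
    exact exists_eq_conjAut (Subgroup.mem_subgroupOf.1 ha)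
  have hP₀disp : ∀ a ∈ (P₀ : Subgroup (E.autGroup Q)), Disp F x (a : MulAut Q) 1 := fun a ha => by
    obtain ⟨g, hg, hgT, he⟩ := hP₀mem a ha
    rw [he]
    exact disp_one_of_fixAut (fixExt_restrict (fixExt_conj hQS' (Subgroup.zpowers_le.2 hx.1) (hTS hgT)
      fun y hy => by
        obtain ⟨k, rfl⟩ := hy
        exact (Commute.zpow_right (hTC g hgT) k :)) le_rfl _ fun _ => rfl)
  let zW : ∀ a : E.autGroup Q, Subgroup.center Q := fun a => (exists_dispW hx (hnear a a.2)).choose
  have hzW : ∀ a : E.autGroup Q, DispW F (centralizerIn S T) x (a : MulAut Q) (zW a) :=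
    fun a => (exists_dispW hx (hnear a a.2)).choose_spec
  have hdisp : ∀ a : E.autGroup Q, ∃ z, Disp F x (a : MulAut Q) z := fun a =>
    ⟨_, disp_of_dispW hx (hzW a)⟩
  let B := dispGroup (Q := Q) hQS' hx.1 F
  have hinv : ∀ a : E.autGroup Q, ∃ u, Disp F x (a : MulAut Q)⁻¹ u := fun a => by
    obtain ⟨u, hu⟩ := hdisp a⁻¹
    exact ⟨u, hu⟩
  -- equivariant choice of the displacements
  let M := E.autGroup Q ⧸ (P₀ : Subgroup (E.autGroup Q))
  let rep : M → M := fun c => (Quotient.mk'' c :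
    MulAction.orbitRel.Quotient (P₀ : Subgroup (E.autGroup Q)) M).out
  have hτ : ∀ c : M, ∃ τ : (P₀ : Subgroup (E.autGroup Q)), τ • rep c = c := fun c => by
    have h : MulAction.orbitRel (P₀ : Subgroup (E.autGroup Q)) M c (rep c) :=
      Quotient.eq''.1 (Quotient.out_eq' _).symm
    exact h
  choose τ hτ using hτ
  let zt : M → Subgroup.center Q := fun c =>
    actC Q ((τ c : E.autGroup Q) : MulAut Q) (zW (rep c).out)
  have hstab : ∀ (s : (P₀ : Subgroup (E.autGroup Q))) (r : M), s • r = r →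
      actC Q ((s : E.autGroup Q) : MulAut Q) (zW r.out) = zW r.out := by
    intro s r hs
    have h1 : (QuotientGroup.mk ((s : E.autGroup Q) * r.out) : M) = QuotientGroup.mk r.out := by
      conv_rhs => rw [QuotientGroup.out_eq']
      conv_rhs => rw [← hs]
      conv_rhs => rw [← QuotientGroup.out_eq' r]
      rfl
    have h2 : r.out⁻¹ * ((s : E.autGroup Q) * r.out) ∈ (P₀ : Subgroup (E.autGroup Q)) :=
      QuotientGroup.eq.1 h1.symm
    obtain ⟨g, hg, hgT, he⟩ := hP₀mem _ s.2
    obtain ⟨g', hg', hg'T, he'⟩ := hP₀mem _ h2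
    rw [he]
    refine dispW_stable hS hF hE hQT hQS hx (hzW r.out) hgT hg'T hg hg' ?_
    rw [← he, ← he', ← Subgroup.coe_mul, ← Subgroup.coe_mul, mul_inv_cancel_left]
  have hrep : ∀ (s : (P₀ : Subgroup (E.autGroup Q))) (c : M), rep (s • c) = rep c := by
    intro s c
    have h : (Quotient.mk'' (s • c) : MulAction.orbitRel.Quotient (P₀ : Subgroup (E.autGroup Q)) M) =
        Quotient.mk'' c := Quotient.eq''.2 ⟨s, rfl⟩
    exact congrArg Quotient.out h
  have hequiv : ∀ (s : (P₀ : Subgroup (E.autGroup Q))) (c : M),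
      zt (s • c) = actC Q ((s : E.autGroup Q) : MulAut Q) (zt c) := by
    intro s c
    have h1 : ((τ (s • c))⁻¹ * s * τ c) • rep c = rep c := by
      rw [mul_smul, mul_smul, hτ, inv_smul_eq_iff]
      conv_rhs => rw [← hrep s c]
      exact (hτ (s • c)).symm
    have h2 := hstab _ _ h1
    have h3 := congrArg (actC Q (((τ (s • c) : (P₀ : Subgroup (E.autGroup Q))) : E.autGroup Q) : MulAut Q)) h2
    rw [← MulAut.mul_apply, ← map_mul] at h3
    simp only [zt, hrep s c]
    rw [← h3, ← MulAut.mul_apply, ← map_mul]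
    congr 2
    simp only [Subgroup.coe_mul, Subgroup.coe_inv, mul_assoc, mul_inv_cancel_left]
  -- displacements of coset representatives
  have hztdisp : ∀ (c : M) (a : E.autGroup Q), QuotientGroup.mk a = c →
      ∃ z, Disp F x (a : MulAut Q) z ∧ z = zt c := by
    intro c a ha
    have h1 : (QuotientGroup.mk ((τ c : E.autGroup Q) * (rep c).out) : M) = QuotientGroup.mk a := by
      conv_rhs => rw [ha, ← hτ c]
      conv_rhs => rw [← QuotientGroup.out_eq' (rep c)]
      rfl
    have h2 := QuotientGroup.eq.1 h1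
    have hd := disp_mul (disp_mul (hP₀disp _ (τ c).2) (disp_of_dispW hx (hzW (rep c).out)))
      (hP₀disp _ h2)
    rw [one_mul, map_one, mul_one, ← Subgroup.coe_mul, ← Subgroup.coe_mul, mul_inv_cancel_left] at hd
    exact ⟨_, hd, rfl⟩
  haveI : Fintype M := Fintype.ofFinite _
  let σ := ∏ c, zt c
  set n := Fintype.card M with hn
  have hnp : ¬ p ∣ n := by
    rw [hn, ← Nat.card_eq_fintype_card]
    exact P₀.not_dvd_index
  have hco : (Nat.card (Subgroup.center Q)).Coprime n := by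
    obtain ⟨j, hj⟩ := (IsPGroup.iff_card (p := p)).1 ((isPGroup_of_le hS hQS').to_subgroup (Subgroup.center Q))
    rw [hj]
    exact Nat.Coprime.pow_left _ ((Nat.Prime.coprime_iff_not_dvd Fact.out).2 hnp)
  let d := (powCoprime hco).symm σ
  have hdn : d ^ n = σ := (powCoprime hco).apply_symm_apply σ
  have hdfix : ∀ s : (P₀ : Subgroup (E.autGroup Q)), actC Q ((s : E.autGroup Q) : MulAut Q) d = d := by
    intro s
    apply (powCoprime hco).injective
    show (actC Q _ d) ^ n = d ^ n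
    rw [← map_pow, hdn, map_prod]
    exact Fintype.prod_equiv (MulAction.toPerm s) _ _ fun c => (hequiv s c).symm
  -- `d` is a displacement potential modulo `B`
  have hkey : ∀ (a : E.autGroup Q) (z : Subgroup.center Q), Disp F x (a : MulAut Q) z →
      d⁻¹ * (z * actC Q (a : MulAut Q) d) ∈ B := by
    intro a z hz
    have hc : ∀ c : M, (zt (a • c))⁻¹ * (z * actC Q (a : MulAut Q) (zt c)) ∈ B := by
      intro c
      obtain ⟨z₁, hz₁, rfl⟩ := hztdisp c c.out (QuotientGroup.out_eq' c)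
      obtain ⟨z₂, hz₂, rfl⟩ := hztdisp (a • c) (a * c.out) (by
        conv_rhs => rw [← QuotientGroup.out_eq' c]
        rfl)
      exact disp_congr hQS' hx.1 (hinv (a * c.out)) hz₂ (disp_mul hz hz₁)
    have hprod : σ⁻¹ * (z ^ n * actC Q (a : MulAut Q) σ) ∈ B := by
      have h := prod_mem (t := Finset.univ) fun c _ => hc c
      rw [Finset.prod_mul_distrib, Finset.prod_mul_distrib, Finset.prod_const, Finset.card_univ,
        Finset.prod_inv_distrib, ← map_prod,
        Fintype.prod_equiv (MulAction.toPerm a) (fun c => zt (a • c)) zt fun c => rfl] at h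
      exact h
    rw [← hdn, map_pow, ← inv_pow, ← mul_pow, ← mul_pow] at hprod
    set w := d⁻¹ * (z * actC Q (a : MulAut Q) d) with hw
    have hcoB : (Nat.card (Subgroup.center Q)).Coprime n := hco
    have hwB : w ∈ Subgroup.zpowers (w ^ n) := by
      refine ⟨(Nat.card (Subgroup.center Q)).gcdB n, ?_⟩
      have := (powCoprime hcoB).symm_apply_apply w
      exact this
    exact (Subgroup.zpowers_le.2 hprod) hwB
  have hdC : ∀ g ∈ T, g * ((d : Q) : Ω) = ((d : Q) : Ω) * g := by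
    intro g hg
    have hgQ : g ∈ Subgroup.normalizer (Q : Set Ω) := hQS (hTS hg)
    have hmem : (⟨conjAut Q g hgQ, autInducedBy_le_autGroup E hQT (conjAut_mem_autInducedBy hg hgQ)⟩ :
        E.autGroup Q) ∈ (P₀ : Subgroup (E.autGroup Q)) := by
      rw [hP₀]
      exact conjAut_mem_autInducedBy hg hgQ
    have h := congrArg (fun v : Subgroup.center Q => ((v : Q) : Ω)) (hdfix ⟨_, hmem⟩)
    have h' : g * ((d : Q) : Ω) * g⁻¹ = ((d : Q) : Ω) := h
    exact (mul_inv_eq_iff_eq_mul.1 h' :)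
  refine ⟨x * ((d : Q) : Ω), ⟨S.mul_mem hx.1 (hQS' (d : Q).2),
    Subgroup.mem_centralizer_iff.2 fun g hg => ?_⟩, ?_, fun α hα => ?_⟩
  · rw [← mul_assoc, hTC g hg, mul_assoc, hdC g hg, mul_assoc]
  · rw [inv_mul_cancel_left]
    exact hQT (d : Q).2
  obtain ⟨z, hz⟩ := hdisp ⟨α, hα⟩
  set b := d⁻¹ * (z * actC Q α d) with hb
  have hbB : b ∈ B := hkey ⟨α, hα⟩ z hz
  have h := disp_mul ((mem_dispGroup hQS' hx.1).1 (inv_mem hbB)) hz
  rw [one_mul, map_one, MulAut.one_apply] at h
  obtain ⟨ψ, hψ, hψQ, hψx⟩ := h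
  have hle : Q ⊔ Subgroup.zpowers (x * ((d : Q) : Ω)) ≤ Q ⊔ Subgroup.zpowers x :=
    sup_le le_sup_left (Subgroup.zpowers_le.2
      (mul_mem (Subgroup.mem_sup_right (Subgroup.mem_zpowers x)) (Subgroup.mem_sup_left (d : Q).2)))
  refine fixAut_of_disp_one ⟨_, restrict_mem hψ hle, fun q => hψQ q, ?_⟩
  show ψ (⟨x, Subgroup.mem_sup_right (Subgroup.mem_zpowers x)⟩ * Subgroup.inclusion le_sup_left (d : Q)) = _
  rw [map_mul, hψx, hψQ, show ((1 : Subgroup.center Q) : Q) = (1 : Q) from rfl, Subgroup.coe_one,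
    mul_one, mul_assoc]
  congr 1
  rw [← actC_apply, ← Subgroup.coe_mul, ← Subgroup.coe_mul]
  congr 2
  rw [hb, mul_inv_rev, inv_inv, mul_assoc, mul_assoc, mul_comm d, ← mul_assoc, ← mul_assoc,
    mul_assoc ((z * actC Q α d)⁻¹), inv_mul_cancel, one_mul]

end CfsgLib.NormalCent
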