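import Cfsg.Agent.Lib.Fusion.NormalCent.Disp

/-!
# The quadratic case
-/

set_option autoImplicit false

namespace CfsgLib.NormalCent

open Cfsg Cfsg.FusionSystem CfsgLib.Fusion
open scoped IsMulCommutative

variable {Ω : Type*} [Group Ω] {S T : Subgroup Ω} {F : Cfsg.FusionSystem S} {E : Cfsg.FusionSystem T}
variable {P Q R : Subgroup Ω} {p : ℕ} {x : Ω}

/-- `t` acts quadratically on the centre of `Q`. -/
def QuadOn (Q : Subgroup Ω) (t : Ω) : Prop :=
  ∀ d ∈ Q ⊓ Subgroup.centralizer (Q : Set Ω), t * (t * d * t⁻¹ * d⁻¹) = t * d * t⁻¹ * d⁻¹ * t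

theorem conjAut_eq_normalizerMonoidHom {g : Ω} (hg : g ∈ Subgroup.normalizer (Q : Set Ω)) :
    Q.normalizerMonoidHom ⟨g, hg⟩ = conjAut Q g hg := MulEquiv.ext fun q => Subtype.ext rfl

theorem conjAut_mem_fixAut {g : Ω} (hQ : Q ≤ S) (hx : x ∈ S) (hg : g ∈ S)
    (hgQ : g ∈ Subgroup.normalizer (Q : Set Ω)) (hgx : g * x = x * g) :
    conjAut Q g hgQ ∈ fixAut F (Subgroup.zpowers x) Q :=
  fixExt_restrict (fixExt_conj hQ (Subgroup.zpowers_le.2 hx) hg fun y hy => by
    obtain ⟨k, rfl⟩ := hy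
    exact (Commute.zpow_right hgx k :)) le_rfl _ fun _ => rfl

/-- If some element of `N_T(Q)` outside `Q` is quadratic on `Z(Q)`, all automorphisms fix `x`. -/
theorem fixAut_caseA [Finite S] [Fact p.Prime] (hS : IsPGroup p S) (hp : p ≠ 2)
    (hE : E.IsNormalIn F p) (hx : x ∈ centralizerIn S T) (hQfn : E.IsFullyNormalized Q)
    (hnear : ∀ α ∈ E.autGroup Q, α ∈ Near F (Subgroup.zpowers x) Q)
    {t : Ω} (htN : t ∈ normalizerIn T Q) (htQ : t ∉ Q) (hquad : QuadOn Q t)
    (hbig : ∀ U, Q < U → U ≤ normalizerIn T Q → (∀ s ∈ normalizerIn T Q, QuadOn Q s → s ∈ U) →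
      Good E F (Subgroup.zpowers x) U) :
    ∀ α ∈ E.autGroup Q, α ∈ fixAut F (Subgroup.zpowers x) Q := by
  classical
  have hTS := normal_le hE
  haveI := normal_finite hE
  have hTp : IsPGroup p T := isPGroup_of_le hS hTS
  have hsat := normal_sat hE
  have hQT : Q ≤ T := hQfn.1
  have hQS : Q ≤ S := hQT.trans hTS
  have hxS : x ∈ S := hx.1
  haveI : Finite Q := finite_of_le hQS
  haveI : Finite (MulAut Q) := finite_mulAut
  let B := dispGroup (Q := Q) hQS hxS F
  have hdisp : ∀ α ∈ E.autGroup Q, ∃ z, Disp F x α z := fun α hα => disp_of_near (hnear α hα)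
  have hinv : ∀ α ∈ E.autGroup Q, ∃ u, Disp F x α⁻¹ u := fun α hα =>
    hdisp α⁻¹ (inv_mem hα)
  have hmap : ∀ α : E.autGroup Q, B.map (actC Q (α : MulAut Q)).toMonoidHom = B := fun α => by
    refine Subgroup.eq_of_le_of_card_ge ?_ (Subgroup.card_map_of_injective (MulEquiv.injective _)).ge
    rintro _ ⟨b, hb, rfl⟩
    exact disp_conj_mem hQS hxS (hdisp α α.2) (hinv α α.2) hb
  let act : E.autGroup Q →* MulAut (Subgroup.center Q ⧸ B) :=
    { toFun := fun α => QuotientGroup.congr B B (actC Q (α : MulAut Q)) (hmap α)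
      map_one' := MulEquiv.ext fun v => by
        induction v using QuotientGroup.induction_on with
        | H z => rfl
      map_mul' := fun α β => MulEquiv.ext fun v => by
        induction v using QuotientGroup.induction_on with
        | H z => rfl }
  have hact : ∀ (α : E.autGroup Q) (z : Subgroup.center Q),
      act α (QuotientGroup.mk z) = QuotientGroup.mk (actC Q (α : MulAut Q) z) := fun α z => rfl
  let f : E.autGroup Q → Subgroup.center Q ⧸ B := fun α =>
    QuotientGroup.mk (hdisp α α.2).choose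
  have hfeq : ∀ (α : E.autGroup Q) (z : Subgroup.center Q), Disp F x (α : MulAut Q) z →
      f α = QuotientGroup.mk z := fun α z hz =>
    QuotientGroup.eq.2 (disp_congr hQS hxS (hinv α α.2) (hdisp α α.2).choose_spec hz)
  have hf : ∀ a b, f (a * b) = f a * act a (f b) := fun a b =>
    (hfeq (a * b) _ (disp_mul (hdisp a a.2).choose_spec (hdisp b b.2).choose_spec)).trans rfl
  let H : Subgroup (E.autGroup Q) :=
    (fixAutGroup F hQS (Subgroup.zpowers_le.2 hxS)).comap (E.autGroup Q).subtype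
  have hfH : ∀ h ∈ H, f h = 1 := fun h hh => (hfeq h 1 (disp_one_of_fixAut hh)).trans rfl
  obtain ⟨P₀, hP₀⟩ := (isFullyAutomized_of_isFullyNormalized hTp hsat hQfn).2
  have hconjx : ∀ g ∈ T, g * x = x * g := fun g hg =>
    Subgroup.mem_centralizer_iff.1 hx.2 g hg
  have hP₀H : (P₀ : Subgroup (E.autGroup Q)) ≤ H := by
    intro a ha
    rw [hP₀] at ha
    obtain ⟨g, hg, hgT, he⟩ := exists_eq_conjAut (Subgroup.mem_subgroupOf.1 ha)
    show (a : MulAut Q) ∈ fixAut F (Subgroup.zpowers x) Q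
    rw [he]
    exact conjAut_mem_fixAut hQS hxS (hTS hgT) hg (hconjx g hgT)
  let Qs : Set (E.autGroup Q) := {a | FixedQuad.IsQuad act a}
  let J := Subgroup.closure (Qs ∩ (P₀ : Set (E.autGroup Q)))
  let J' : Subgroup (MulAut Q) := J.map (E.autGroup Q).subtype
  let U : Subgroup Ω := normalizerIn T Q ⊓
    (J'.comap Q.normalizerMonoidHom).map (Subgroup.normalizer (Q : Set Ω)).subtype
  have hUN : U ≤ normalizerIn T Q := inf_le_left
  have hmemU : ∀ {g : Ω} (hg : g ∈ normalizerIn T Q), conjAut Q g hg.2 ∈ J' → g ∈ U := fun {g} hg h =>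
    ⟨hg, ⟨⟨g, hg.2⟩, by rw [SetLike.mem_coe, Subgroup.mem_comap, conjAut_eq_normalizerMonoidHom]; exact h,
      rfl⟩⟩
  have hQP₀ : ∀ {g : Ω} (hg : g ∈ normalizerIn T Q),
      (⟨conjAut Q g hg.2, autInducedBy_le_autGroup E hQT (conjAut_mem_autInducedBy hg.1 hg.2)⟩ :
        E.autGroup Q) ∈ (P₀ : Subgroup (E.autGroup Q)) := fun hg => by
    rw [hP₀]
    exact conjAut_mem_autInducedBy hg.1 hg.2
  have hquadU : ∀ s ∈ normalizerIn T Q, QuadOn Q s → s ∈ U := by
    intro s hs hsq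
    refine hmemU hs ⟨_, Subgroup.subset_closure ⟨?_, hQP₀ hs⟩, rfl⟩
    intro v
    induction v using QuotientGroup.induction_on with
    | H z =>
      rw [hact, ← QuotientGroup.mk_div, hact]
      congr 1
      refine Subtype.ext (Subtype.ext ?_)
      rw [actC_apply]
      have h := hsq _ (coe_mem_center z)
      show s * ((((actC Q (conjAut Q s hs.2) z / z : Subgroup.center Q) : Q) : Ω)) * s⁻¹ = _
      rw [div_eq_mul_inv]
      show s * (s * ((z : Q) : Ω) * s⁻¹ * ((z : Q) : Ω)⁻¹) * s⁻¹ =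
        s * ((z : Q) : Ω) * s⁻¹ * ((z : Q) : Ω)⁻¹
      rw [h, mul_inv_cancel_right]
  have hQU : Q ≤ U := fun q hq => hquadU q (le_normalizerIn hQT hq) fun d hd => by
    have hqd : q * d = d * q := Subgroup.mem_centralizer_iff.1 hd.2 q hq
    rw [hqd]
    simp
  have hQltU : Q < U := lt_of_le_of_ne hQU fun h => htQ (h ▸ hquadU t htN hquad)
  have hUgood := hbig U hQltU hUN hquadU
  have hJP₀ : J ≤ (P₀ : Subgroup (E.autGroup Q)) := (Subgroup.closure_le _).2 fun a ha => ha.2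
  have hH : Subgroup.normalizer (J : Set (E.autGroup Q)) ≤ H := by
    intro a ha
    obtain ⟨χ, hχ, hag⟩ := autE_extends hTp hsat hQfn a.2 hQU hUN fun b hb => by
      obtain ⟨g, hg, hgU, rfl⟩ := exists_eq_conjAut hb
      obtain ⟨⟨g', hg'⟩, hg'J, hgg'⟩ := hgU.2
      obtain rfl : g' = g := hgg'
      rw [SetLike.mem_coe, Subgroup.mem_comap, conjAut_eq_normalizerMonoidHom] at hg'J
      obtain ⟨j, hj, hje⟩ := hg'J
      have h1 : a * j * a⁻¹ ∈ (P₀ : Subgroup (E.autGroup Q)) :=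
        hJP₀ ((Subgroup.mem_normalizer_iff.1 ha j).1 hj)
      rw [hP₀] at h1
      rw [← hje]
      exact h1
    exact mem_fixAut_of_extends hUgood hχ hQU hag
  have hV : ∀ v : Subgroup.center Q ⧸ B, ∃ k : ℕ, v ^ p ^ k = 1 :=
    ((isPGroup_of_le hS hQS).to_subgroup _).to_quotient B
  intro α hα
  have hf1 := FixedQuad.derivation_eq_one hp P₀ Qs (fun a ha g => ha.conj g) (fun a ha => ha) H hP₀H hH
    hV f hf hfH ⟨α, hα⟩
  obtain ⟨z, hz⟩ := hdisp α hα
  rw [hfeq ⟨α, hα⟩ z hz, QuotientGroup.eq_one_iff] at hf1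
  exact fixAut_of_disp hQS hxS hz hf1

end CfsgLib.NormalCent
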