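import Cfsg.Agent.Lib.Fusion.NormalCent.Near

/-!
# Goodness of a characteristic centric subgroup passes upwards
-/

set_option autoImplicit false

namespace CfsgLib.NormalCent

open Cfsg Cfsg.FusionSystem CfsgLib.Fusion

variable {Ω : Type*} [Group Ω] {S T : Subgroup Ω} {F : Cfsg.FusionSystem S} {E : Cfsg.FusionSystem T}
variable {P Q R X Y : Subgroup Ω} {p : ℕ}

/-- If `X ≤ Q` is centric in `E`, invariant in `Q`, and good, then so is `Aut_E(Q)`. -/
theorem fixAut_caseB [Finite S] [Fact p.Prime] (hS : IsPGroup p S) (hF : F.IsSaturated p)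
    (hE : E.IsNormalIn F p) (hY : Y ≤ centralizerIn S T) (hYc : IsMulCommutative Y)
    (hQ : E.IsFullyNormalized Q) (hX : E.IsCentric X) (hXQ : X ≤ Q)
    (hinv : ∀ α ∈ F.autGroup Q, ∀ q : Q, (q : Ω) ∈ X → ((α q : Q) : Ω) ∈ X)
    (hgood : Good E F Y X) : ∀ α ∈ E.autGroup Q, α ∈ fixAut F Y Q := by
  classical
  have hTS := normal_le hE
  haveI := normal_finite hE
  have hTp : IsPGroup p T := isPGroup_of_le hS hTS
  have hsat := normal_sat hE
  have hQT : Q ≤ T := hQ.1
  have hQS : Q ≤ S := hQT.trans hTS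
  have hXS : X ≤ S := hXQ.trans hQS
  have hYS : Y ≤ S := hY.trans (centralizerIn_le S T)
  have hYT : ∀ t ∈ T, ∀ y ∈ Y, t * y = y * t := fun t ht y hy =>
    Subgroup.mem_centralizer_iff.1 (hY hy).2 t ht
  haveI : Finite Q := finite_of_le hQS
  haveI : Finite X := finite_of_le hXS
  haveI : Finite (MulAut Q) := finite_mulAut
  -- elements of `Q` normalize `X`
  have hQX : ∀ q ∈ Q, q ∈ Subgroup.normalizer (X : Set Ω) := by
    intro q hq
    rw [Subgroup.mem_normalizer_iff]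
    have key : ∀ r ∈ Q, ∀ w ∈ X, r * w * r⁻¹ ∈ X := fun r hr w hw =>
      hinv _ ((mem_autGroup_iff hQS).2 (isFIso_conjAut hQS (hQS hr) (Subgroup.le_normalizer hr)))
        ⟨w, hXQ hw⟩ hw
    exact fun w => ⟨key q hq w, fun hw => by
      have := key q⁻¹ (inv_mem hq) _ hw
      simpa [mul_assoc] using this⟩
  let fixG : Subgroup (MulAut Q) := fixAutGroup F hQS hYS
  -- automorphisms in `E` trivial on `X` fix `Y`
  have hKE : ∀ α ∈ E.autGroup Q, (∀ q : Q, (q : Ω) ∈ X → α q = q) → α ∈ fixG := by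
    intro α hα hfix
    obtain ⟨z, hzX, -, hz⟩ := eq_conj_of_fix_centric hTp hsat hX ((mem_autGroup_iff_hom hQT).1 hα)
      hXQ fun q hq => congrArg Subtype.val (hfix q hq)
    exact fixExt_restrict (fixExt_conj (F := F) hQS hYS (hXS hzX) fun y hy => hYT z (hQT (hXQ hzX)) y hy)
      le_rfl _ fun q => hz q
  -- the kernel of the restriction to `X`
  let K : Subgroup (MulAut Q) :=
    { carrier := {κ | κ ∈ F.autGroup Q ∧ ∀ q : Q, (q : Ω) ∈ X → κ q = q}
      one_mem' := ⟨one_mem _, fun q _ => rfl⟩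
      mul_mem' := fun {a b} ha hb => ⟨mul_mem ha.1 hb.1, fun q hq => by
        rw [MulAut.mul_apply, hb.2 q hq, ha.2 q hq]⟩
      inv_mem' := fun {a} ha => ⟨inv_mem ha.1, fun q hq => by
        conv_lhs => rw [← ha.2 q hq]
        exact MulAut.inv_apply_self _ a q⟩ }
  have hKnorm : ∀ κ ∈ K, ∀ α ∈ F.autGroup Q, α * κ * α⁻¹ ∈ K := fun κ hκ α hα =>
    ⟨mul_mem (mul_mem hα hκ.1) (inv_mem hα), fun q hq => by
      have h : ((α⁻¹ : MulAut Q) q : Ω) ∈ X := hinv _ (inv_mem hα) q hq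
      rw [MulAut.mul_apply, MulAut.mul_apply, hκ.2 _ h, MulAut.apply_inv_self]⟩
  let M : Subgroup (MulAut Q) := K ⊓ E.autGroup Q
  have hM : M ≤ fixG := fun α hα => hKE α hα.2 hα.1.2
  have hMnorm : ∀ m ∈ M, ∀ α ∈ F.autGroup Q, α * m * α⁻¹ ∈ M := fun m hm α hα =>
    ⟨hKnorm m hm.1 α hα, autE_conj hE hQT hm.2 hα⟩
  -- `K` has exponent dividing `|X|`
  have hKpow : ∀ κ ∈ K, κ ^ Nat.card X = 1 := by
    intro κ hκ
    refine MulEquiv.ext fun q => Subtype.ext ?_
    set z := q⁻¹ * κ q with hz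
    have hzX : (z : Ω) ∈ X := by
      refine centralizerIn_le_of_isCentric hX ⟨hQT z.2, Subgroup.mem_centralizer_iff.2 fun w hw => ?_⟩
      have hqw : (q : Ω) * w * (q : Ω)⁻¹ ∈ X := (Subgroup.mem_normalizer_iff.1 (hQX q q.2) w).1 hw
      have h1 : κ (q * ⟨w, hXQ hw⟩ * q⁻¹) = q * ⟨w, hXQ hw⟩ * q⁻¹ := hκ.2 _ hqw
      rw [map_mul, map_mul, map_inv, hκ.2 ⟨w, hXQ hw⟩ hw] at h1
      have h2 : z * ⟨w, hXQ hw⟩ = ⟨w, hXQ hw⟩ * z := by
        rw [hz]
        calc q⁻¹ * κ q * ⟨w, hXQ hw⟩ = q⁻¹ * (κ q * ⟨w, hXQ hw⟩ * (κ q)⁻¹) * κ q := by group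
          _ = q⁻¹ * (q * ⟨w, hXQ hw⟩ * q⁻¹) * κ q := by rw [h1]
          _ = ⟨w, hXQ hw⟩ * (q⁻¹ * κ q) := by group
      exact (congrArg Subtype.val h2).symm
    have hpow : ∀ n : ℕ, (κ ^ n) q = q * z ^ n := by
      intro n
      induction n with
      | zero => simp
      | succ n ih =>
        rw [pow_succ', MulAut.mul_apply, ih, map_mul, map_pow, hκ.2 z hzX, pow_succ', ← mul_assoc,
          show κ q = q * z by rw [hz, mul_inv_cancel_left]]
    have hzc : z ^ Nat.card X = 1 := by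
      refine Subtype.ext ?_
      rw [SubmonoidClass.coe_pow, Subgroup.coe_one]
      exact congrArg Subtype.val (pow_card_eq_one' (x := (⟨(z : Ω), hzX⟩ : X)))
    rw [hpow, hzc, mul_one]
    rfl
  -- every automorphism agrees on `X` with one fixing `Y`
  have hlift : ∀ α ∈ E.autGroup Q, ∃ κ ∈ K, α * κ ∈ fixG := by
    intro α hα
    have hαF := autE_le_autF hE hQT hα
    obtain ⟨ψ, hψ, hψX, hψY⟩ := hgood _ (mem_of_restrict ((mem_autGroup_iff_hom hQT).1 hα) hXQ
      ((Q.subtype.comp α.toMonoidHom).comp (Subgroup.inclusion hXQ)) fun _ => rfl)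
    have hU₀S : X ⊔ Y ≤ S := sup_le hXS hYS
    haveI : Finite ↥(X ⊔ Y) := finite_of_le hU₀S
    have hψmem : ∀ w, ψ w ∈ X ⊔ Y := apply_mem_sup
      (fun w => by
        rw [hψX]
        exact Subgroup.mem_sup_left (hinv α hαF ⟨w, hXQ w.2⟩ w.2))
      fun y => by rw [hψY]; exact Subgroup.mem_sup_right y.2
    obtain ⟨γ, hγ, hγψ⟩ := exists_aut hψ (range_eq_of_le (hom_inj hψ) hψmem)
    obtain ⟨U', hUU', hU'⟩ := exists_isFullyNormalized F hU₀S
    obtain ⟨e, he, θ, hθ, hθN, hθag⟩ := exists_normalizer_map hS hF hU' hUU'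
    have hγ' : MulAut.congr e γ ∈ F.autGroup U' := he.congr_mem hγ
    have hg : IsFIso F ((MulAut.congr e γ : MulAut U') : U' ≃* U') := (mem_autGroup_iff hU'.1).1 hγ'
    -- `Q` and `Y` normalize `X ⊔ Y`
    have hQU : Q ≤ normalizerIn S (X ⊔ Y) := fun q hq => ⟨hQS hq, by
      have key : ∀ r ∈ Q, ∀ w ∈ X ⊔ Y, r * w * r⁻¹ ∈ X ⊔ Y := fun r hr w hw => by
        have hle : X ⊔ Y ≤ (X ⊔ Y).comap (MulAut.conj r).toMonoidHom := sup_le
          (fun v hv => Subgroup.mem_sup_left ((Subgroup.mem_normalizer_iff.1 (hQX r hr) v).1 hv))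
          fun v hv => by
            show r * v * r⁻¹ ∈ X ⊔ Y
            rw [hYT r (hQT hr) v hv, mul_inv_cancel_right]
            exact Subgroup.mem_sup_right hv
        exact hle hw
      refine Subgroup.mem_normalizer_iff.2 fun w => ⟨key q hq w, fun hw => ?_⟩
      have := key q⁻¹ (inv_mem hq) _ hw
      simpa [mul_assoc] using this⟩
    have hR : Q ⊔ Y ≤ normalizerIn S (X ⊔ Y) := sup_le hQU
      fun y hy => ⟨hYS hy, Subgroup.le_normalizer (Subgroup.mem_sup_right hy)⟩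
    have hg₁ := restrict_mem hθ hR
    set g₁ := θ.comp (Subgroup.inclusion hR) with hg₁def
    -- the transported action of `q`
    have hactq : ∀ q : Q, MulAut.congr γ (conjAut (X ⊔ Y) (q : Ω) (hQU q.2).2) =
        conjAut (X ⊔ Y) ((α q : Q) : Ω) (hQU (α q).2).2 := by
      intro q
      apply MulEquiv.ext
      intro w
      rw [congr_apply]
      refine Subtype.ext ?_
      have key : ∀ v : ↥(X ⊔ Y), ψ (conjAut (X ⊔ Y) (q : Ω) (hQU q.2).2 v) =
          ((α q : Q) : Ω) * ψ v * ((α q : Q) : Ω)⁻¹ := by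
        have h := eq_of_eq_sup (P := X) (Y := Y)
          (f := ψ.comp (conjAut (X ⊔ Y) (q : Ω) (hQU q.2).2).toMonoidHom)
          (g := (MulAut.conj ((α q : Q) : Ω)).toMonoidHom.comp ψ)
          (fun w => by
            have hw : (q : Ω) * w * (q : Ω)⁻¹ ∈ X := (Subgroup.mem_normalizer_iff.1 (hQX q q.2) w).1 w.2
            show ψ (conjAut _ _ _ _) = ((α q : Q) : Ω) * ψ _ * ((α q : Q) : Ω)⁻¹
            rw [show conjAut (X ⊔ Y) (q : Ω) (hQU q.2).2 (Subgroup.inclusion le_sup_left w) =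
              Subgroup.inclusion le_sup_left ⟨_, hw⟩ from Subtype.ext rfl, hψX, hψX]
            show ((α (q * Subgroup.inclusion hXQ w * q⁻¹) : Q) : Ω) = _
            rw [map_mul, map_mul, map_inv]
            rfl)
          (fun y => by
            show ψ (conjAut _ _ _ _) = ((α q : Q) : Ω) * ψ _ * ((α q : Q) : Ω)⁻¹
            rw [show conjAut (X ⊔ Y) (q : Ω) (hQU q.2).2 (Subgroup.inclusion le_sup_right y) =
              Subgroup.inclusion le_sup_right y from Subtype.ext (by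
                show (q : Ω) * y * (q : Ω)⁻¹ = y
                rw [hYT q (hQT q.2) y y.2, mul_inv_cancel_right]), hψY,
              hYT _ (hQT (α q).2) y y.2, mul_inv_cancel_right])
        exact fun v => DFunLike.congr_fun h v
      rw [conjAut_apply, hγψ, key, ← hγψ, MulEquiv.apply_symm_apply]
    have hcongr : MulAut.congr e γ = (e.symm.trans ((γ : ↥(X ⊔ Y) ≃* ↥(X ⊔ Y)).trans e)) :=
      MulEquiv.ext fun w => rfl
    have htrans : ∀ q : Q, MulAut.congr ((MulAut.congr e γ : MulAut U') : U' ≃* U')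
        (conjAut U' (θ ⟨q, hQU q.2⟩) (hθN _).2) = conjAut U' (θ ⟨α q, hQU (α q).2⟩) (hθN _).2 := by
      intro q
      rw [← congr_conjAut_eq_of_extends (le_normalizerIn hU₀S) hθag (hQU q.2) (hQU q.2).2,
        ← congr_conjAut_eq_of_extends (le_normalizerIn hU₀S) hθag (hQU (α q).2) (hQU (α q).2).2,
        ← hactq q]
      refine MulEquiv.ext fun w => ?_
      simp only [congr_apply, hcongr, MulEquiv.trans_apply, MulEquiv.symm_trans_apply,
        MulEquiv.symm_apply_apply, MulEquiv.symm_symm]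
    have hYact : ∀ y : Y, MulAut.congr ((MulAut.congr e γ : MulAut U') : U' ≃* U')
        (conjAut U' (θ ⟨y, hR (Subgroup.mem_sup_right y.2)⟩) (hθN _).2) = 1 := by
      intro y
      have h1 : conjAut (X ⊔ Y) (y : Ω) (hR (Subgroup.mem_sup_right y.2)).2 = 1 := by
        rw [conjAut_eq_one_iff, Subgroup.mem_centralizer_iff]
        intro w hw
        have hle : X ⊔ Y ≤ Subgroup.centralizer {(y : Ω)} := sup_le
          (fun v hv => Subgroup.mem_centralizer_singleton_iff.2 (hYT v (hQT (hXQ hv)) y y.2))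
          (fun v hv => Subgroup.mem_centralizer_singleton_iff.2
            (congrArg Subtype.val (hYc.is_comm.comm (⟨v, hv⟩ : Y) y)))
        exact Subgroup.mem_centralizer_singleton_iff.1 (hle hw)
      rw [← congr_conjAut_eq_of_extends (le_normalizerIn hU₀S) hθag (hR (Subgroup.mem_sup_right y.2))
        (hR (Subgroup.mem_sup_right y.2)).2, h1, map_one, map_one]
    have hrng : g₁.range ≤ normalizerIn S U' := by
      rintro _ ⟨w, rfl⟩
      exact hθN _
    have hext : g₁.range ≤ extender S U' (U'.subtype.comp (MulAut.congr e γ).toMonoidHom) := by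
      rintro _ ⟨w, rfl⟩
      refine apply_mem_sup (f := g₁) (fun q => ?_) (fun y => ?_) w
      · exact (mem_extender_iff_congr _ (fun _ => rfl) (hθN _).1 (hθN _).2).2
          ((htrans q).symm ▸ conjAut_mem_autInducedBy (hθN _).1 (hθN _).2)
      · exact (mem_extender_iff_congr _ (fun _ => rfl) (hθN _).1 (hθN _).2).2
          ((hYact y).symm ▸ one_mem _)
    have hU'le : U' ≤ g₁.range := by
      intro w hw
      refine ⟨⟨(e.symm ⟨w, hw⟩ : ↥(X ⊔ Y)), sup_le_sup_right hXQ Y (e.symm ⟨w, hw⟩).2⟩, ?_⟩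
      exact (hθag (e.symm ⟨w, hw⟩)).trans (congrArg Subtype.val (e.apply_symm_apply ⟨w, hw⟩))
    obtain ⟨β, hβ, -, hβag⟩ := hg.exists_extension (isReceptive_of_isFullyNormalized hS hF hU')
      hU'le hrng fun g hg' => (mem_extender_iff_congr _ (fun _ => rfl) (hrng hg').1 (hrng hg').2).1 (hext hg')
    have hG := F.comp_mem hg₁ hβ fun w => ⟨w, rfl⟩
    set G := β.comp (g₁.codRestrict g₁.range fun w => ⟨w, rfl⟩) with hGdef
    have hgU : ∀ v : ↥(X ⊔ Y), g₁ ⟨v, sup_le_sup_right hXQ Y v.2⟩ = e v := fun v => hθag v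
    have hGU : ∀ v : ↥(X ⊔ Y), G ⟨v, sup_le_sup_right hXQ Y v.2⟩ = e (γ v) := by
      intro v
      show β ⟨g₁ ⟨v, sup_le_sup_right hXQ Y v.2⟩, _⟩ = _
      refine (congrArg β (Subtype.ext (hgU v))).trans ((hβag (e v)).trans ?_)
      rw [congr_apply, MulEquiv.symm_apply_apply]
    -- `X` transported
    have hXc : centralizerIn T ((X.subgroupOf (normalizerIn S (X ⊔ Y))).map θ) ≤
        (X.subgroupOf (normalizerIn S (X ⊔ Y))).map θ :=
      centralizer_le_of_fConj hE hX
        ⟨_, restrict_mem hθ (le_sup_left.trans (le_normalizerIn hU₀S)),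
          range_comp_inclusion (le_sup_left.trans (le_normalizerIn hU₀S))⟩
    have hGQ : ∀ q : Q, G (Subgroup.inclusion le_sup_left q) ∈ g₁.range := by
      intro q
      have hqT : θ ⟨q, hQU q.2⟩ ∈ T := stronglyClosed_apply_mem (normal_strong hE) hθ _ (hQT q.2)
      have hbT : G (Subgroup.inclusion le_sup_left q) ∈ T :=
        stronglyClosed_apply_mem (normal_strong hE) hβ _ hqT
      have haT : θ ⟨α q, hQU (α q).2⟩ ∈ T :=
        stronglyClosed_apply_mem (normal_strong hE) hθ _ (hQT (α q).2)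
      have hbN : G (Subgroup.inclusion le_sup_left q) ∈ Subgroup.normalizer (U' : Set Ω) :=
        map_mem_normalizer_of_extends hU'le hβag _ (hθN _).2
      have hact : conjAut U' (θ ⟨α q, hQU (α q).2⟩) (hθN _).2 =
          conjAut U' (G (Subgroup.inclusion le_sup_left q)) hbN := by
        rw [← htrans q]
        exact congr_conjAut_eq_of_extends hU'le hβag _ (hθN _).2
      set b := G (Subgroup.inclusion le_sup_left q) with hb
      set a := θ ⟨α q, hQU (α q).2⟩ with ha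
      have hc : a⁻¹ * b ∈ (X.subgroupOf (normalizerIn S (X ⊔ Y))).map θ := by
        refine hXc ⟨T.mul_mem (T.inv_mem haT) hbT, Subgroup.mem_centralizer_iff.2 ?_⟩
        rintro _ ⟨⟨w, hwN⟩, hw, rfl⟩
        have hwU : θ ⟨w, hwN⟩ ∈ U' := by
          have := (hθag ⟨w, Subgroup.mem_sup_left hw⟩).symm ▸ (e ⟨w, Subgroup.mem_sup_left hw⟩).2
          exact this
        have h := congrArg Subtype.val (DFunLike.congr_fun hact ⟨_, hwU⟩)
        rw [conjAut_apply, conjAut_apply] at h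
        calc θ ⟨w, hwN⟩ * (a⁻¹ * b) = a⁻¹ * (a * θ ⟨w, hwN⟩ * a⁻¹) * b := by group
          _ = a⁻¹ * (b * θ ⟨w, hwN⟩ * b⁻¹) * b := by rw [← h]
          _ = a⁻¹ * b * θ ⟨w, hwN⟩ := by group
      have hcr : a⁻¹ * b ∈ g₁.range := by
        obtain ⟨⟨w, hwN⟩, hw, hwe⟩ := hc
        exact ⟨⟨w, Subgroup.mem_sup_left (hXQ hw)⟩, hwe⟩
      have := mul_mem (show a ∈ g₁.range from ⟨Subgroup.inclusion le_sup_left (α q), rfl⟩) hcr
      rwa [mul_inv_cancel_left] at this
    have hGY : ∀ y : Y, G (Subgroup.inclusion le_sup_right y) = g₁ (Subgroup.inclusion le_sup_right y) := by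
      intro y
      have h1 : γ (Subgroup.inclusion le_sup_right y) = Subgroup.inclusion le_sup_right y :=
        Subtype.ext ((hγψ _).trans (hψY y))
      have h2 := hGU (Subgroup.inclusion le_sup_right y)
      rw [h1, ← hgU] at h2
      exact h2
    obtain ⟨ρ, hρ, hρinv⟩ := F.inv_mem hg₁
    have hGrange : ∀ w, G w ∈ g₁.range := apply_mem_sup hGQ fun y => by rw [hGY]; exact ⟨_, rfl⟩
    have hΨ := F.comp_mem hG hρ hGrange
    set Ψ := ρ.comp (G.codRestrict g₁.range hGrange) with hΨdef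
    have hΨY : ∀ y : Y, Ψ (Subgroup.inclusion le_sup_right y) = y := fun y =>
      (congrArg ρ (Subtype.ext (hGY y))).trans (hρinv (Subgroup.inclusion le_sup_right y))
    have hΨX : ∀ q : Q, (q : Ω) ∈ X → Ψ (Subgroup.inclusion le_sup_left q) = ((α q : Q) : Ω) := by
      intro q hq
      have hv : (Subgroup.inclusion le_sup_left q : ↥(Q ⊔ Y)) =
          ⟨((⟨q, Subgroup.mem_sup_left hq⟩ : ↥(X ⊔ Y)) : Ω), Subgroup.mem_sup_left q.2⟩ := rfl
      have h1 : G (Subgroup.inclusion le_sup_left q) =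
          g₁ ⟨_, sup_le_sup_right hXQ Y (γ ⟨q, Subgroup.mem_sup_left hq⟩).2⟩ := by
        rw [hgU, hv]
        exact hGU ⟨q, Subgroup.mem_sup_left hq⟩
      refine (congrArg ρ (Subtype.ext h1)).trans ((hρinv _).trans ?_)
      exact (hγψ _).trans (hψX ⟨q, hq⟩)
    -- `Ψ` maps `Q` into `Q`
    have hΨQ : ∀ q : Q, Ψ (Subgroup.inclusion le_sup_left q) ∈ Q := by
      intro q
      have hT' : Ψ (Subgroup.inclusion le_sup_left q) ∈ T :=
        stronglyClosed_apply_mem (normal_strong hE) hΨ _ (hQT q.2)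
      obtain ⟨w, hw⟩ := hGQ q
      have hwT : (w : Ω) ∈ T := by
        have : Ψ (Subgroup.inclusion le_sup_left q) = w := by
          refine (congrArg ρ (Subtype.ext hw.symm)).trans (hρinv w)
        rw [← this]
        exact hT'
      have hqT : θ ⟨q, hQU q.2⟩ ∈ T := stronglyClosed_apply_mem (normal_strong hE) hθ _ (hQT q.2)
      have haT : θ ⟨α q, hQU (α q).2⟩ ∈ T :=
        stronglyClosed_apply_mem (normal_strong hE) hθ _ (hQT (α q).2)
      have hbN : G (Subgroup.inclusion le_sup_left q) ∈ Subgroup.normalizer (U' : Set Ω) :=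
        map_mem_normalizer_of_extends hU'le hβag _ (hθN _).2
      have hact : conjAut U' (θ ⟨α q, hQU (α q).2⟩) (hθN _).2 =
          conjAut U' (G (Subgroup.inclusion le_sup_left q)) hbN := by
        rw [← htrans q]
        exact congr_conjAut_eq_of_extends hU'le hβag _ (hθN _).2
      have hwv : (((α q : Q) : Ω))⁻¹ * w ∈ X := by
        refine centralizerIn_le_of_isCentric hX ⟨T.mul_mem (T.inv_mem (hQT (α q).2)) hwT,
          Subgroup.mem_centralizer_iff.2 fun v hv => ?_⟩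
        have hvU : v ∈ X ⊔ Y := Subgroup.mem_sup_left hv
        have h := congrArg Subtype.val (DFunLike.congr_fun hact (e ⟨v, hvU⟩))
        rw [conjAut_apply, conjAut_apply, ← hgU, ← hw] at h
        have haq : θ ⟨α q, hQU (α q).2⟩ = g₁ (Subgroup.inclusion le_sup_left (α q)) := rfl
        rw [haq] at h
        simp only [← map_inv, ← map_mul] at h
        have h' : ((α q : Q) : Ω) * v * ((α q : Q) : Ω)⁻¹ = (w : Ω) * v * (w : Ω)⁻¹ :=
          by simpa [map_inv] using congrArg Subtype.val (hom_inj hg₁ h)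
        calc v * (((α q : Q) : Ω)⁻¹ * w)
            = ((α q : Q) : Ω)⁻¹ * (((α q : Q) : Ω) * v * ((α q : Q) : Ω)⁻¹) * w := by group
          _ = ((α q : Q) : Ω)⁻¹ * ((w : Ω) * v * (w : Ω)⁻¹) * w := by rw [h']
          _ = ((α q : Q) : Ω)⁻¹ * w * v := by group
      have hΨw : Ψ (Subgroup.inclusion le_sup_left q) = w :=
        (congrArg ρ (Subtype.ext hw.symm)).trans (hρinv w)
      rw [hΨw]
      have := Q.mul_mem (α q).2 (hXQ hwv)
      rwa [mul_inv_cancel_left] at this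
    have hres := restrict_mem hΨ (le_sup_left : Q ≤ Q ⊔ Y)
    obtain ⟨δ, hδ, hδΨ⟩ := exists_aut hres (range_eq_of_le (hom_inj hres) hΨQ)
    refine ⟨α⁻¹ * δ, ⟨mul_mem (inv_mem hαF) hδ, fun q hq => ?_⟩, ?_⟩
    · rw [MulAut.mul_apply, show δ q = α q from Subtype.ext ((hδΨ q).trans (hΨX q hq)),
        MulAut.inv_apply_self]
    · rw [mul_inv_cancel_left]
      exact ⟨Ψ, hΨ, fun q => (hδΨ q).symm, hΨY⟩
  -- some `p`-power of every automorphism fixes `Y`
  obtain ⟨k, hk⟩ := (IsPGroup.iff_card (p := p)).1 (isPGroup_of_le hS hXS)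
  have hpow : ∀ α ∈ E.autGroup Q, α ^ p ^ k ∈ fixG := by
    intro α hα
    obtain ⟨κ, hκ, hακ⟩ := hlift α hα
    have hαF := autE_le_autF hE hQT hα
    have hcomm : ∀ κ' ∈ K, α⁻¹ * κ' * α * κ'⁻¹ ∈ M := fun κ' hκ' => by
      refine ⟨mul_mem ?_ (Subgroup.inv_mem K hκ'), ?_⟩
      · have := hKnorm κ' hκ' α⁻¹ (inv_mem hαF)
        rwa [inv_inv] at this
      · have h := autE_conj hE hQT hα hκ'.1
        have e1 : α⁻¹ * κ' * α * κ'⁻¹ = α⁻¹ * (κ' * α * κ'⁻¹) := by group
        rw [e1]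
        exact mul_mem (Subgroup.inv_mem _ hα) h
    have hn : ∀ n : ℕ, ∃ m ∈ M, (α * κ) ^ n = α ^ n * κ ^ n * m := by
      intro n
      induction n with
      | zero => exact ⟨1, one_mem _, by simp⟩
      | succ n ih =>
        obtain ⟨m, hm, he⟩ := ih
        have h1 : α⁻¹ * m * α ∈ M := by
          have := hMnorm m hm α⁻¹ (inv_mem hαF)
          rwa [inv_inv] at this
        have hκn : κ ^ n ∈ K := pow_mem hκ n
        have h2 := hcomm (κ ^ n) hκn
        set c := α⁻¹ * κ ^ n * α * (κ ^ n)⁻¹ with hc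
        have h3 : (κ ^ (n + 1))⁻¹ * c * κ ^ (n + 1) ∈ M := by
          have := hMnorm c h2 (κ ^ (n + 1))⁻¹ (inv_mem (pow_mem hκ.1 _))
          rwa [inv_inv] at this
        have h4 : κ⁻¹ * (α⁻¹ * m * α) * κ ∈ M := by
          have := hMnorm _ h1 κ⁻¹ (inv_mem hκ.1)
          rwa [inv_inv] at this
        refine ⟨_, mul_mem h3 h4, ?_⟩
        rw [pow_succ (α * κ), he, hc, pow_succ α, pow_succ κ]
        group
    obtain ⟨m, hm, he⟩ := hn (p ^ k)
    rw [show κ ^ p ^ k = 1 from hk ▸ hKpow κ hκ, mul_one] at he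
    rw [show α ^ p ^ k = (α * κ) ^ p ^ k * m⁻¹ by rw [he, mul_inv_cancel_right]]
    exact mul_mem (pow_mem hακ _) (inv_mem (hM hm))
  -- generation
  let N : Subgroup (E.autGroup Q) := Subgroup.closure (Set.range fun a : E.autGroup Q => a ^ p ^ k)
  haveI hNn : N.Normal := ⟨fun a ha g => by
    have : N.map (MulAut.conj g).toMonoidHom ≤ N := by
      show (Subgroup.closure _).map _ ≤ _
      rw [MonoidHom.map_closure]
      refine Subgroup.closure_mono ?_
      rintro _ ⟨_, ⟨b, rfl⟩, rfl⟩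
      exact ⟨MulAut.conj g b, (map_pow (MulAut.conj g) b _).symm⟩
    exact this ⟨a, ha, rfl⟩⟩
  obtain ⟨P₀, hP₀⟩ := (isFullyAutomized_of_isFullyNormalized hTp hsat hQ).2
  have hquot : IsPGroup p (E.autGroup Q ⧸ N) := by
    intro v
    induction v using QuotientGroup.induction_on with
    | H a =>
      exact ⟨k, by rw [← QuotientGroup.mk_pow, QuotientGroup.eq_one_iff]; exact Subgroup.subset_closure ⟨a, rfl⟩⟩
  have htop : (P₀ : Subgroup (E.autGroup Q)) ⊔ N = ⊤ := by
    obtain ⟨j, hj⟩ := (IsPGroup.iff_card (p := p)).1 hquot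
    have h1 : ((P₀ : Subgroup (E.autGroup Q)) ⊔ N).index ∣ p ^ j := by
      rw [← hj, ← Subgroup.index_eq_card]
      exact Subgroup.index_dvd_of_le le_sup_right
    have h2 : ((P₀ : Subgroup (E.autGroup Q)) ⊔ N).index ∣ (P₀ : Subgroup (E.autGroup Q)).index :=
      Subgroup.index_dvd_of_le le_sup_left
    have hco : Nat.Coprime (p ^ j) (P₀ : Subgroup (E.autGroup Q)).index :=
      Nat.Coprime.pow_left _ ((Nat.Prime.coprime_iff_not_dvd Fact.out).2 P₀.not_dvd_index)
    exact Subgroup.index_eq_one.1 (Nat.eq_one_of_dvd_coprimes hco h1 h2)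
  intro α hα
  have hle : (P₀ : Subgroup (E.autGroup Q)) ⊔ N ≤ fixG.comap (E.autGroup Q).subtype := by
    refine sup_le (fun a ha => ?_) ((Subgroup.closure_le _).2 ?_)
    · rw [hP₀] at ha
      obtain ⟨g, hg, hgT, he⟩ := exists_eq_conjAut (Subgroup.mem_subgroupOf.1 ha)
      show (a : MulAut Q) ∈ fixAut F Y Q
      rw [he]
      exact fixExt_restrict (fixExt_conj (F := F) hQS hYS (hTS hgT) fun y hy => hYT g hgT y hy) le_rfl _
        fun _ => rfl
    · rintro _ ⟨a, rfl⟩
      exact hpow a a.2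
  exact hle (htop ▸ Subgroup.mem_top (⟨α, hα⟩ : E.autGroup Q))

end CfsgLib.NormalCent
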