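import Cfsg.Agent.Lib.Fusion.NormalCent.Near
import Cfsg.Agent.Lib.Fusion.FixedQuad
import Mathlib.GroupTheory.Subgroup.Center

/-!
# Displacements of an element centralizing `T` by extensions of automorphisms

`Disp F x Q α z`: `α` extends over `⟨x⟩` with `x ↦ x z`.  The displacement is a derivation into
`Z(Q)` modulo the displacements of the identity.
-/

set_option autoImplicit false

namespace CfsgLib.NormalCent

open Cfsg Cfsg.FusionSystem CfsgLib.Fusion
open scoped IsMulCommutative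

variable {Ω : Type*} [Group Ω] {S T : Subgroup Ω} {F : Cfsg.FusionSystem S} {E : Cfsg.FusionSystem T}
variable {P Q R : Subgroup Ω} {p : ℕ} {x : Ω}

/-- The action of automorphisms on the centre. -/
def actC (Q : Subgroup Ω) : MulAut Q →* MulAut (Subgroup.center Q) where
  toFun α := Subgroup.centerCongr α
  map_one' := MulEquiv.ext fun z => Subtype.ext rfl
  map_mul' α β := MulEquiv.ext fun z => Subtype.ext rfl

theorem actC_apply (α : MulAut Q) (z : Subgroup.center Q) : ((actC Q α z : Q) : Ω) = α (z : Q) := rfl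

theorem coe_mem_center (z : Subgroup.center Q) :
    ((z : Q) : Ω) ∈ Q ⊓ Subgroup.centralizer (Q : Set Ω) :=
  ⟨(z : Q).2, Subgroup.mem_centralizer_iff.2 fun q hq =>
    congrArg Subtype.val (Subgroup.mem_center_iff.1 z.2 ⟨q, hq⟩)⟩

theorem exists_center_of_mem {w : Ω} (h : w ∈ Q ⊓ Subgroup.centralizer (Q : Set Ω)) :
    ∃ z : Subgroup.center Q, ((z : Q) : Ω) = w :=
  ⟨⟨⟨w, h.1⟩, Subgroup.mem_center_iff.2 fun q =>
    Subtype.ext (Subgroup.mem_centralizer_iff.1 h.2 q q.2)⟩, rfl⟩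

/-- `α` extends over `⟨x⟩` sending `x` to `x z`. -/
def Disp (F : Cfsg.FusionSystem S) (x : Ω) {Q : Subgroup Ω} (α : MulAut Q)
    (z : Subgroup.center Q) : Prop :=
  ∃ ψ ∈ F.Hom (Q ⊔ Subgroup.zpowers x),
    (∀ q : Q, ψ (Subgroup.inclusion le_sup_left q) = α q) ∧
    ψ ⟨x, Subgroup.mem_sup_right (Subgroup.mem_zpowers x)⟩ = x * (z : Q)

theorem disp_of_near {α : MulAut Q} (h : α ∈ Near F (Subgroup.zpowers x) Q) : ∃ z, Disp F x α z := by
  obtain ⟨ψ, hψ, h1, h2⟩ := h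
  obtain ⟨z, hz⟩ := exists_center_of_mem (h2 ⟨x, Subgroup.mem_zpowers x⟩)
  refine ⟨z, ψ, hψ, h1, ?_⟩
  rw [hz, mul_inv_cancel_left]
  rfl

theorem disp_one_of_fixAut {α : MulAut Q} (h : α ∈ fixAut F (Subgroup.zpowers x) Q) :
    Disp F x α 1 := by
  obtain ⟨ψ, hψ, h1, h2⟩ := h
  refine ⟨ψ, hψ, h1, ?_⟩
  rw [show ((1 : Subgroup.center Q) : Q) = (1 : Q) from rfl, Subgroup.coe_one, mul_one]
  exact h2 ⟨x, Subgroup.mem_zpowers x⟩

theorem fixAut_of_disp_one {α : MulAut Q} (h : Disp F x α 1) :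
    α ∈ fixAut F (Subgroup.zpowers x) Q := by
  obtain ⟨ψ, hψ, h1, h2⟩ := h
  refine ⟨ψ, hψ, h1, fun y => ?_⟩
  obtain ⟨k, hk⟩ := y.2
  have hy : Subgroup.inclusion le_sup_right y =
      (⟨x, Subgroup.mem_sup_right (Subgroup.mem_zpowers x)⟩ : ↥(Q ⊔ Subgroup.zpowers x)) ^ k :=
    Subtype.ext (by rw [SubgroupClass.coe_zpow]; exact hk.symm)
  rw [hy, map_zpow, h2, show ((1 : Subgroup.center Q) : Q) = (1 : Q) from rfl, Subgroup.coe_one,
    mul_one]
  exact hk

theorem disp_one (hQ : Q ≤ S) (hx : x ∈ S) : Disp F x (1 : MulAut Q) 1 :=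
  disp_one_of_fixAut (one_mem_fixAut hQ (Subgroup.zpowers_le.2 hx))

theorem disp_mul {α β : MulAut Q} {z w : Subgroup.center Q} (hα : Disp F x α z) (hβ : Disp F x β w) :
    Disp F x (α * β) (z * actC Q α w) := by
  obtain ⟨ψ, hψ, h1, h2⟩ := hβ
  obtain ⟨ψ', hψ', h1', h2'⟩ := hα
  have hle : Q ⊔ Subgroup.zpowers x ≤
      ((Q ⊔ Subgroup.zpowers x).comap ψ).map (Q ⊔ Subgroup.zpowers x).subtype := by
    refine sup_le (fun q hq => ⟨⟨q, Subgroup.mem_sup_left hq⟩, ?_, rfl⟩) (Subgroup.zpowers_le.2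
      ⟨⟨x, Subgroup.mem_sup_right (Subgroup.mem_zpowers x)⟩, ?_, rfl⟩)
    · show ψ _ ∈ Q ⊔ _
      rw [show (⟨q, _⟩ : ↥(Q ⊔ Subgroup.zpowers x)) = Subgroup.inclusion le_sup_left ⟨q, hq⟩ from rfl, h1]
      exact Subgroup.mem_sup_left (β _).2
    · show ψ _ ∈ Q ⊔ _
      rw [h2]
      exact mul_mem (Subgroup.mem_sup_right (Subgroup.mem_zpowers x)) (Subgroup.mem_sup_left (w : Q).2)
  have hmem : ∀ u, ψ u ∈ Q ⊔ Subgroup.zpowers x := fun u => by
    obtain ⟨v, hv, hvu⟩ := hle u.2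
    rwa [← Subtype.ext hvu]
  refine ⟨_, F.comp_mem hψ hψ' hmem, fun q => ?_, ?_⟩
  · refine Eq.trans (congrArg ψ' (Subtype.ext ?_)) (h1' (β q))
    exact h1 q
  · show ψ' ⟨ψ _, hmem _⟩ = _
    have he : (⟨ψ ⟨x, Subgroup.mem_sup_right (Subgroup.mem_zpowers x)⟩, hmem _⟩ :
        ↥(Q ⊔ Subgroup.zpowers x)) = ⟨x, Subgroup.mem_sup_right (Subgroup.mem_zpowers x)⟩ *
          Subgroup.inclusion le_sup_left (w : Q) := Subtype.ext h2
    rw [he, map_mul, h2', h1', mul_assoc]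
    rfl

/-- The displacements of the identity. -/
def dispGroup [Finite S] (hQ : Q ≤ S) (hx : x ∈ S) (F : Cfsg.FusionSystem S) :
    Subgroup (Subgroup.center Q) where
  carrier := {z | Disp F x (1 : MulAut Q) z}
  one_mem' := disp_one hQ hx
  mul_mem' := fun {z w} hz hw => by
    have := disp_mul hz hw
    rwa [one_mul, map_one] at this
  inv_mem' := fun {z} hz => by
    have hpow : ∀ n : ℕ, Disp F x (1 : MulAut Q) (z ^ n) := by
      intro n
      induction n with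
      | zero => rw [pow_zero]; exact disp_one hQ hx
      | succ n ih =>
        have := disp_mul ih hz
        rwa [one_mul, map_one, MulAut.one_apply, ← pow_succ] at this
    haveI : Finite Q := finite_of_le hQ
    obtain ⟨n, hn⟩ : ∃ n : ℕ, z⁻¹ = z ^ n :=
      ⟨orderOf z - 1, inv_eq_of_mul_eq_one_right (by
        rw [← pow_succ', Nat.sub_add_cancel (orderOf_pos z), pow_orderOf_eq_one])⟩
    exact hn ▸ hpow n

variable [Finite S] (hQ : Q ≤ S) (hx : x ∈ S)

theorem mem_dispGroup {z : Subgroup.center Q} : z ∈ dispGroup hQ hx F ↔ Disp F x (1 : MulAut Q) z :=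
  Iff.rfl

/-- Two displacements of one automorphism differ by a displacement of the identity. -/
theorem disp_congr {α : MulAut Q} (hinv : ∃ u, Disp F x α⁻¹ u) {z z' : Subgroup.center Q}
    (hz : Disp F x α z) (hz' : Disp F x α z') : z⁻¹ * z' ∈ dispGroup hQ hx F := by
  obtain ⟨u, hu⟩ := hinv
  have h1 := disp_mul hz hu
  have h2 := disp_mul hz' hu
  rw [mul_inv_cancel] at h1 h2
  have := mul_mem (inv_mem ((mem_dispGroup hQ hx).2 h1)) ((mem_dispGroup hQ hx).2 h2)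
  have e : (z * actC Q α u)⁻¹ * (z' * actC Q α u) = z⁻¹ * z' := by
    rw [mul_inv_rev, mul_comm z', mul_assoc, ← mul_assoc z⁻¹, mul_comm z⁻¹, mul_assoc,
      inv_mul_cancel_left]
  rwa [e] at this

theorem disp_conj_mem {α : MulAut Q} (hnear : ∃ z, Disp F x α z) (hinv : ∃ u, Disp F x α⁻¹ u)
    {b : Subgroup.center Q} (hb : b ∈ dispGroup hQ hx F) :
    actC Q α b ∈ dispGroup hQ hx F := by
  obtain ⟨u, hu⟩ := hinv
  obtain ⟨z, hz⟩ := hnear
  have h1 := disp_mul hz hu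
  have h2 := disp_mul hz (disp_mul ((mem_dispGroup hQ hx).1 hb) hu)
  rw [mul_inv_cancel] at h1
  rw [one_mul, mul_inv_cancel, map_one, MulAut.one_apply, map_mul] at h2
  have := mul_mem (inv_mem ((mem_dispGroup hQ hx).2 h1)) ((mem_dispGroup hQ hx).2 h2)
  have e : (z * actC Q α u)⁻¹ * (z * (actC Q α b * actC Q α u)) = actC Q α b := by
    rw [mul_comm (actC Q α b), ← mul_assoc z, inv_mul_cancel_left]
  rwa [e] at this

theorem fixAut_of_disp {α : MulAut Q} {z : Subgroup.center Q} (hz : Disp F x α z)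
    (hb : z ∈ dispGroup hQ hx F) : α ∈ fixAut F (Subgroup.zpowers x) Q := by
  have h := disp_mul ((mem_dispGroup hQ hx).1 (inv_mem hb)) hz
  rw [one_mul, map_one, MulAut.one_apply, inv_mul_cancel] at h
  exact fixAut_of_disp_one h

end CfsgLib.NormalCent
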