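import Cfsg.Agent.Lib.Fusion.Invariant
import Cfsg.Agent.Lib.Fusion.Alperin

/-!
# Extensions of maps over an extra subgroup `Y`

`FixExt F Y φ`: the map extends over `Y` fixing it pointwise.  `Near F Y Q`: automorphisms of `Q` extending
over `Y` to maps moving each `y` inside `y Z(Q)`.
-/

set_option autoImplicit false

namespace CfsgLib.NormalCent

open Cfsg Cfsg.FusionSystem CfsgLib.Fusion
open scoped commutatorElement

variable {Ω : Type*} [Group Ω] {S T : Subgroup Ω} {F : Cfsg.FusionSystem S} {E : Cfsg.FusionSystem T}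
variable {P Q R Y : Subgroup Ω}

/-- Two maps on `P ⊔ Y` agreeing on `P` and `Y` agree. -/
theorem eq_of_eq_sup {M : Type*} [Group M] {f g : ↥(P ⊔ Y) →* M}
    (hP : ∀ x : P, f (Subgroup.inclusion le_sup_left x) = g (Subgroup.inclusion le_sup_left x))
    (hY : ∀ y : Y, f (Subgroup.inclusion le_sup_right y) = g (Subgroup.inclusion le_sup_right y)) :
    f = g := by
  refine MonoidHom.ext fun w => ?_
  obtain ⟨w, hw⟩ := w
  have key : P ⊔ Y ≤ (f.eqLocus g).map (P ⊔ Y).subtype :=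
    sup_le (fun x hx => ⟨⟨x, Subgroup.mem_sup_left hx⟩, hP ⟨x, hx⟩, rfl⟩)
      (fun y hy => ⟨⟨y, Subgroup.mem_sup_right hy⟩, hY ⟨y, hy⟩, rfl⟩)
  obtain ⟨v, hv, hvw⟩ := key hw
  obtain rfl : v = ⟨w, hw⟩ := Subtype.ext hvw
  exact hv

/-- A map on `P ⊔ Y` sending both into a subgroup has its values there. -/
theorem apply_mem_sup {f : ↥(P ⊔ Y) →* Ω} {U : Subgroup Ω}
    (hP : ∀ x : P, f (Subgroup.inclusion le_sup_left x) ∈ U)
    (hY : ∀ y : Y, f (Subgroup.inclusion le_sup_right y) ∈ U) (w : ↥(P ⊔ Y)) : f w ∈ U := by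
  obtain ⟨w, hw⟩ := w
  have key : P ⊔ Y ≤ (U.comap f).map (P ⊔ Y).subtype :=
    sup_le (fun x hx => ⟨⟨x, Subgroup.mem_sup_left hx⟩, hP ⟨x, hx⟩, rfl⟩)
      (fun y hy => ⟨⟨y, Subgroup.mem_sup_right hy⟩, hY ⟨y, hy⟩, rfl⟩)
  obtain ⟨v, hv, hvw⟩ := key hw
  obtain rfl : v = ⟨w, hw⟩ := Subtype.ext hvw
  exact hv

/-- `φ` extends over `Y` fixing it. -/
def FixExt (F : Cfsg.FusionSystem S) (Y : Subgroup Ω) {P : Subgroup Ω} (φ : P →* Ω) : Prop :=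
  ∃ ψ ∈ F.Hom (P ⊔ Y), (∀ x : P, ψ (Subgroup.inclusion le_sup_left x) = φ x) ∧
    ∀ y : Y, ψ (Subgroup.inclusion le_sup_right y) = y

theorem fixExt_restrict {φ : Q →* Ω} (h : FixExt F Y φ) (hPQ : P ≤ Q) (χ : P →* Ω)
    (hχ : ∀ x : P, χ x = φ ⟨x, hPQ x.2⟩) : FixExt F Y χ := by
  obtain ⟨ψ, hψ, h1, h2⟩ := h
  exact ⟨_, restrict_mem hψ (sup_le_sup_right hPQ Y),
    fun x => (hχ x).symm ▸ h1 ⟨x, hPQ x.2⟩, fun y => h2 y⟩

theorem fixExt_comp {φ : P →* Ω} {φ' : Q →* Ω} (h : FixExt F Y φ) (h' : FixExt F Y φ')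
    (hPQ : ∀ x, φ x ∈ Q) (χ : P →* Ω) (hχ : ∀ x, χ x = φ' ⟨φ x, hPQ x⟩) : FixExt F Y χ := by
  obtain ⟨ψ, hψ, h1, h2⟩ := h
  obtain ⟨ψ', hψ', h1', h2'⟩ := h'
  have hmem : ∀ w, ψ w ∈ Q ⊔ Y := apply_mem_sup
    (fun x => by rw [h1]; exact Subgroup.mem_sup_left (hPQ x))
    fun y => by rw [h2]; exact Subgroup.mem_sup_right y.2
  refine ⟨_, F.comp_mem hψ hψ' hmem, fun x => ?_, fun y => ?_⟩
  · rw [hχ x]
    refine Eq.trans (congrArg ψ' (Subtype.ext ?_)) (h1' ⟨φ x, hPQ x⟩)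
    exact h1 x
  · refine Eq.trans (congrArg ψ' (Subtype.ext ?_)) (h2' y)
    exact h2 y

theorem fixExt_symm {e : P ≃* Q} (h : FixExt F Y (Q.subtype.comp e.toMonoidHom)) :
    FixExt F Y (P.subtype.comp e.symm.toMonoidHom) := by
  obtain ⟨ψ, hψ, h1, h2⟩ := h
  obtain ⟨ρ, hρ, hρinv⟩ := F.inv_mem hψ
  have hle : Q ⊔ Y ≤ ψ.range := sup_le
    (fun x hx => ⟨_, (h1 (e.symm ⟨x, hx⟩)).trans (congrArg Subtype.val (e.apply_symm_apply ⟨x, hx⟩))⟩)
    fun y hy => ⟨_, h2 ⟨y, hy⟩⟩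
  refine ⟨_, restrict_mem hρ hle, fun x => ?_, fun y => ?_⟩
  · show ρ ⟨(x : Ω), _⟩ = ((e.symm x : P) : Ω)
    refine Eq.trans (congrArg ρ (Subtype.ext ?_)) (hρinv (Subgroup.inclusion le_sup_left (e.symm x)))
    exact ((h1 (e.symm x)).trans (congrArg Subtype.val (e.apply_symm_apply x))).symm
  · show ρ ⟨(y : Ω), _⟩ = (y : Ω)
    refine Eq.trans (congrArg ρ (Subtype.ext ?_)) (hρinv (Subgroup.inclusion le_sup_right y))
    exact (h2 y).symm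

/-- Conjugation by an element centralizing `Y`. -/
theorem fixExt_conj (hP : P ≤ S) (hY : Y ≤ S) {g : Ω} (hg : g ∈ S)
    (hgY : ∀ y ∈ Y, g * y = y * g) : FixExt F Y (conjHom P g) := by
  refine ⟨_, F.conj_mem (sup_le hP hY) hg, fun x => rfl, fun y => ?_⟩
  show g * (y : Ω) * g⁻¹ = y
  rw [hgY y y.2, mul_inv_cancel_right]

/-- Automorphisms extending over `Y` fixing it. -/
def fixAut (F : Cfsg.FusionSystem S) (Y Q : Subgroup Ω) : Set (MulAut Q) :=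
  {α | FixExt F Y (Q.subtype.comp α.toMonoidHom)}

theorem one_mem_fixAut (hQ : Q ≤ S) (hY : Y ≤ S) : (1 : MulAut Q) ∈ fixAut F Y Q :=
  ⟨_, subtype_mem F (sup_le hQ hY), fun _ => rfl, fun _ => rfl⟩

theorem mul_mem_fixAut {α β : MulAut Q} (hα : α ∈ fixAut F Y Q) (hβ : β ∈ fixAut F Y Q) :
    α * β ∈ fixAut F Y Q :=
  fixExt_comp hβ hα (fun x => (β x).2) _ fun _ => rfl

theorem inv_mem_fixAut {α : MulAut Q} (hα : α ∈ fixAut F Y Q) : α⁻¹ ∈ fixAut F Y Q :=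
  fixExt_symm (e := (α : Q ≃* Q)) hα

/-- The subgroup of automorphisms extending over `Y` fixing it. -/
def fixAutGroup (F : Cfsg.FusionSystem S) (hQ : Q ≤ S) (hY : Y ≤ S) : Subgroup (MulAut Q) where
  carrier := fixAut F Y Q
  one_mem' := one_mem_fixAut hQ hY
  mul_mem' := mul_mem_fixAut
  inv_mem' := inv_mem_fixAut

/-- Automorphisms extending over `Y` and moving each `y` inside `y Z(Q)`. -/
def Near (F : Cfsg.FusionSystem S) (Y Q : Subgroup Ω) : Set (MulAut Q) :=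
  {α | ∃ ψ ∈ F.Hom (Q ⊔ Y), (∀ x : Q, ψ (Subgroup.inclusion le_sup_left x) = α x) ∧
    ∀ y : Y, (y : Ω)⁻¹ * ψ (Subgroup.inclusion le_sup_right y) ∈ Q ⊓ Subgroup.centralizer (Q : Set Ω)}

theorem fixAut_subset_near : fixAut F Y Q ⊆ Near F Y Q := by
  rintro α ⟨ψ, hψ, h1, h2⟩
  exact ⟨ψ, hψ, h1, fun y => by rw [h2 y, inv_mul_cancel]; exact Subgroup.one_mem _⟩

theorem aut_apply_mem_center (α : MulAut Q) {z : Q}
    (hz : (z : Ω) ∈ Subgroup.centralizer (Q : Set Ω)) :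
    ((α z : Q) : Ω) ∈ Q ⊓ Subgroup.centralizer (Q : Set Ω) := by
  refine ⟨(α z).2, Subgroup.mem_centralizer_iff.2 fun q hq => ?_⟩
  have h : α.symm ⟨q, hq⟩ * z = z * α.symm ⟨q, hq⟩ :=
    Subtype.ext (Subgroup.mem_centralizer_iff.1 hz _ (α.symm ⟨q, hq⟩).2)
  have h' := congrArg (fun w => ((α w : Q) : Ω)) h
  simpa using h'

theorem mul_mem_near {α β : MulAut Q} (hα : α ∈ Near F Y Q) (hβ : β ∈ Near F Y Q) :
    α * β ∈ Near F Y Q := by
  obtain ⟨ψ, hψ, h1, h2⟩ := hβ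
  obtain ⟨ψ', hψ', h1', h2'⟩ := hα
  have hmem : ∀ w, ψ w ∈ Q ⊔ Y := apply_mem_sup
    (fun x => by rw [h1]; exact Subgroup.mem_sup_left (β x).2)
    fun y => by
      have := mul_mem (Subgroup.mem_sup_right (S := Q) y.2) (Subgroup.mem_sup_left (T := Y) (h2 y).1)
      rwa [mul_inv_cancel_left] at this
  refine ⟨_, F.comp_mem hψ hψ' hmem, fun x => ?_, fun y => ?_⟩
  · refine Eq.trans (congrArg ψ' (Subtype.ext ?_)) (h1' (β x))
    exact h1 x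
  · show (y : Ω)⁻¹ * ψ' ⟨ψ (Subgroup.inclusion le_sup_right y), _⟩ ∈ _
    set z : Q := ⟨(y : Ω)⁻¹ * ψ (Subgroup.inclusion le_sup_right y), (h2 y).1⟩ with hzdef
    have he : (⟨ψ (Subgroup.inclusion le_sup_right y), hmem _⟩ : ↥(Q ⊔ Y)) =
        Subgroup.inclusion le_sup_right y * Subgroup.inclusion le_sup_left z := Subtype.ext (by
      show ψ _ = (y : Ω) * ((y : Ω)⁻¹ * ψ _)
      rw [mul_inv_cancel_left])
    rw [he, map_mul, h1', ← mul_assoc]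
    exact mul_mem (h2' y) (aut_apply_mem_center α (h2 y).2)

theorem one_mem_near (hQ : Q ≤ S) (hY : Y ≤ S) : (1 : MulAut Q) ∈ Near F Y Q :=
  fixAut_subset_near (one_mem_fixAut hQ hY)

theorem closure_subset_near [Finite S] (hQ : Q ≤ S) (hY : Y ≤ S) {s : Set (MulAut Q)}
    (hs : s ⊆ Near F Y Q) : ∀ α ∈ Subgroup.closure s, α ∈ Near F Y Q := by
  haveI : Finite Q := finite_of_le hQ
  haveI : Finite (MulAut Q) := finite_mulAut
  intro α hα
  rw [← Subgroup.mem_toSubmonoid, Subgroup.closure_toSubmonoid_of_finite] at hα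
  exact Submonoid.closure_induction (fun x hx => hs hx) (one_mem_near hQ hY)
    (fun x y _ _ hx hy => mul_mem_near hx hy) hα

/-- A near extension fixes the commutators of elements of `Y` centralizing `Q`. -/
theorem fixAut_of_near {C : Subgroup Ω} (hYC : Y ≤ ⁅C, C⁆) (hCQ : ∀ c ∈ C, ∀ q ∈ Q, c * q = q * c)
    {α : MulAut Q} (h : α ∈ Near F C Q) : α ∈ fixAut F Y Q := by
  obtain ⟨ψ, hψ, h1, h2⟩ := h
  have hYC' : Y ≤ C := hYC.trans ((Subgroup.commutator_le).2 fun a ha b hb =>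
    mul_mem (mul_mem (mul_mem ha hb) (Subgroup.inv_mem C ha)) (Subgroup.inv_mem C hb))
  refine ⟨_, restrict_mem hψ (sup_le_sup_left hYC' Q), fun x => h1 x, fun y => ?_⟩
  let K : Subgroup Ω :=
    { carrier := {w | ∃ hw : w ∈ C, ψ ⟨w, Subgroup.mem_sup_right hw⟩ = w}
      one_mem' := ⟨C.one_mem, by
        rw [show (⟨1, Subgroup.mem_sup_right C.one_mem⟩ : ↥(Q ⊔ C)) = 1 from rfl, map_one]⟩
      mul_mem' := by
        rintro a b ⟨ha, ha'⟩ ⟨hb, hb'⟩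
        refine ⟨C.mul_mem ha hb, ?_⟩
        conv_rhs => rw [← ha', ← hb', ← map_mul]
        rfl
      inv_mem' := by
        rintro a ⟨ha, ha'⟩
        refine ⟨Subgroup.inv_mem C ha, ?_⟩
        conv_rhs => rw [← ha', ← map_inv]
        rfl }
  suffices hle : ⁅C, C⁆ ≤ K by
    obtain ⟨hw, hfix⟩ := hle (hYC y.2)
    exact hfix
  rw [Subgroup.commutator_le]
  intro a ha b hb
  refine ⟨mul_mem (mul_mem (mul_mem ha hb) (Subgroup.inv_mem C ha)) (Subgroup.inv_mem C hb), ?_⟩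
  set u := (a : Ω)⁻¹ * ψ ⟨a, Subgroup.mem_sup_right ha⟩ with hu
  set v := (b : Ω)⁻¹ * ψ ⟨b, Subgroup.mem_sup_right hb⟩ with hv
  have huQ : u ∈ Q ⊓ Subgroup.centralizer (Q : Set Ω) := h2 ⟨a, ha⟩
  have hvQ : v ∈ Q ⊓ Subgroup.centralizer (Q : Set Ω) := h2 ⟨b, hb⟩
  have e : (⟨⁅a, b⁆, Subgroup.mem_sup_right
      (mul_mem (mul_mem (mul_mem ha hb) (Subgroup.inv_mem C ha)) (Subgroup.inv_mem C hb))⟩ : ↥(Q ⊔ C)) =
      ⁅(⟨a, Subgroup.mem_sup_right ha⟩ : ↥(Q ⊔ C)), ⟨b, Subgroup.mem_sup_right hb⟩⁆ := rfl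
  rw [e, map_commutatorElement, show ψ ⟨a, Subgroup.mem_sup_right ha⟩ = a * u by
    rw [hu, mul_inv_cancel_left], show ψ ⟨b, Subgroup.mem_sup_right hb⟩ = b * v by
    rw [hv, mul_inv_cancel_left]]
  have hub : u * b = b * u := (hCQ b hb u huQ.1).symm
  have huv : u * v = v * u := (Subgroup.mem_centralizer_iff.1 hvQ.2 u huQ.1)
  have hua : u * a = a * u := (hCQ a ha u huQ.1).symm
  have hva : v * a = a * v := (hCQ a ha v hvQ.1).symm
  have hvb : v * b = b * v := (hCQ b hb v hvQ.1).symm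
  rw [commutatorElement_def, commutatorElement_def]
  have c1 : Commute u (b * v) := Commute.mul_right hub huv
  have c2 : Commute v a⁻¹ := Commute.inv_right hva
  calc a * u * (b * v) * (a * u)⁻¹ * (b * v)⁻¹
      = a * (u * (b * v) * u⁻¹) * a⁻¹ * (b * v)⁻¹ := by group
    _ = a * (b * v) * a⁻¹ * (b * v)⁻¹ := by rw [c1.eq, mul_inv_cancel_right]
    _ = a * b * (v * a⁻¹ * v⁻¹) * b⁻¹ := by group
    _ = a * b * a⁻¹ * b⁻¹ := by rw [c2.eq, mul_inv_cancel_right]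

end CfsgLib.NormalCent
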