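import Cfsg.Agent.Lib.Fusion.NormalCent.Ext

/-!
# Automorphisms of a normal subsystem extend near the identity over `C_S(T)`
-/

set_option autoImplicit false

namespace CfsgLib.NormalCent

open Cfsg Cfsg.FusionSystem CfsgLib.Fusion

variable {Ω : Type*} [Group Ω] {S T : Subgroup Ω} {F : Cfsg.FusionSystem S} {E : Cfsg.FusionSystem T}
variable {P Q R Y : Subgroup Ω} {p : ℕ}

theorem normal_le (hE : E.IsNormalIn F p) : T ≤ S := hE.1.2.2.2.1.1

theorem normal_strong (hE : E.IsNormalIn F p) : F.StronglyClosed T := hE.1.2.2.2.1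

theorem normal_sub (hE : E.IsNormalIn F p) : E.IsSubsystemOf F := hE.1.2.2.1

theorem normal_sat (hE : E.IsNormalIn F p) : E.IsSaturated p := hE.1.1

theorem normal_finite (hE : E.IsNormalIn F p) [Finite S] : Finite T := finite_of_le (normal_le hE)

theorem autE_le_autF (hE : E.IsNormalIn F p) (hQ : Q ≤ T) : E.autGroup Q ≤ F.autGroup Q :=
  fun _ hα => (mem_autGroup_iff_hom (hQ.trans (normal_le hE))).2
    (normal_sub hE Q ((mem_autGroup_iff_hom hQ).1 hα))

theorem isFIso_F (hE : E.IsNormalIn F p) {e : P ≃* Q} (he : IsFIso E e) : IsFIso F e :=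
  normal_sub hE P he

/-- `Aut_E(Q)` is normalized by `Aut_F(Q)`. -/
theorem autE_conj (hE : E.IsNormalIn F p) (hQ : Q ≤ T) {α β : MulAut Q} (hα : α ∈ E.autGroup Q)
    (hβ : β ∈ F.autGroup Q) : β * α * β⁻¹ ∈ E.autGroup Q := by
  obtain ⟨χ, hχ, hx⟩ := stronglyInvariant_of_isInvariantIn hE.1.2.2 Q Q le_rfl hQ _
    ((mem_autGroup_iff_hom hQ).1 hα) (fun x => (α x).2) _
    ((mem_autGroup_iff_hom (hQ.trans (normal_le hE))).1 hβ)
  have hle : Q ≤ (Q.subgroupOf Q).map (Q.subtype.comp β.toMonoidHom) := fun y hy =>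
    ⟨β.symm ⟨y, hy⟩, (β.symm ⟨y, hy⟩).2, congrArg Subtype.val (β.apply_symm_apply ⟨y, hy⟩)⟩
  refine (mem_autGroup_iff_hom hQ).2 (mem_of_restrict hχ hle _ fun y => ?_)
  refine Eq.symm (Eq.trans (congrArg χ (Subtype.ext ?_)) (hx (β.symm y) ?_))
  · exact (congrArg Subtype.val (β.apply_symm_apply y)).symm
  · exact apply_mem_map_subgroupOf (φ := Q.subtype.comp β.toMonoidHom) _ (β.symm y).2

/-- Centricity in `E` passes to `F`-conjugates. -/
theorem centralizer_le_of_fConj (hE : E.IsNormalIn F p) (hC : E.IsCentric Q)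
    (h : F.IsConj Q R) : centralizerIn T R ≤ R := by
  obtain ⟨φ, hφ, rfl⟩ := h
  obtain ⟨α, -, φ₀, hφ₀, hx⟩ := hE.1.2.2.2.2.2 Q hC.1 φ hφ
  intro c hc
  have h0 : ((α.symm ⟨c, hc.1⟩ : T) : Ω) ∈ φ₀.range := by
    refine hC.2 _ ⟨φ₀, hφ₀, rfl⟩ ⟨(α.symm ⟨c, hc.1⟩).2, Subgroup.mem_centralizer_iff.2 ?_⟩
    rintro _ ⟨x, rfl⟩
    have hcom := Subgroup.mem_centralizer_iff.1 hc.2 (φ x) ⟨x, rfl⟩
    rw [hx x (map_mem hφ₀ x)] at hcom
    have h1 : α ⟨φ₀ x, map_mem hφ₀ x⟩ * ⟨c, hc.1⟩ = ⟨c, hc.1⟩ * α ⟨φ₀ x, map_mem hφ₀ x⟩ :=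
      Subtype.ext hcom
    have h2 := congrArg (fun w => ((α.symm w : T) : Ω)) h1
    simpa using h2
  obtain ⟨x, hx0⟩ := h0
  refine ⟨x, ?_⟩
  rw [hx x (map_mem hφ₀ x), show (⟨φ₀ x, map_mem hφ₀ x⟩ : T) = α.symm ⟨c, hc.1⟩ from Subtype.ext hx0,
    MulEquiv.apply_symm_apply]

/-- Conjugates of `Aut_T(Q)` under `Aut_E(Q)` extend over `C_S(T)` near the identity. -/
theorem conjT_near [Finite S] [Fact p.Prime] (hS : IsPGroup p S) (hF : F.IsSaturated p)
    (hE : E.IsNormalIn F p) (hC : E.IsCentric Q) (hY : Y ≤ centralizerIn S T)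
    {β : MulAut Q} (hβ : β ∈ E.autGroup Q) {t : Ω} (ht : t ∈ T)
    (htQ : t ∈ Subgroup.normalizer (Q : Set Ω)) :
    β * conjAut Q t htQ * β⁻¹ ∈ Near F Y Q := by
  have hTS := normal_le hE
  have hQT : Q ≤ T := hC.1
  have hQS : Q ≤ S := hQT.trans hTS
  obtain ⟨Q', hQQ', hQ'⟩ := exists_isFullyNormalized F hQS
  obtain ⟨e, he, θ, hθ, hθN, hθag⟩ := exists_normalizer_map hS hF hQ' hQQ'
  have hQ'S : Q' ≤ S := he.le_right
  have hQ'T : Q' ≤ T := fun y hy => by
    have := stronglyClosed_apply_mem (normal_strong hE) he (e.symm ⟨y, hy⟩) (hQT (e.symm ⟨y, hy⟩).2)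
    simpa using this
  have hCT : centralizerIn T Q' ≤ Q' := centralizer_le_of_fConj hE hC hQQ'
  -- the transported automorphisms
  have hβ' : MulAut.congr e β ∈ F.autGroup Q' := he.congr_mem (autE_le_autF hE hQT hβ)
  have htN : t ∈ normalizerIn S Q := ⟨hTS ht, htQ⟩
  let t' : Ω := θ ⟨t, htN⟩
  have ht'T : t' ∈ T := stronglyClosed_apply_mem (normal_strong hE) hθ ⟨t, htN⟩ ht
  have ht'N : t' ∈ normalizerIn S Q' := hθN ⟨t, htN⟩
  -- `W' = Q' C_S(Q')`
  let W' : Subgroup Ω := Q' ⊔ centralizerIn S Q'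
  have hW'N : W' ≤ normalizerIn S Q' :=
    sup_le (le_normalizerIn hQ'S) (centralizerIn_le_normalizerIn S Q')
  have hW'S : W' ≤ S := hW'N.trans (normalizerIn_le S Q')
  haveI : Finite W' := finite_of_le hW'S
  have hb : IsFIso F ((MulAut.congr e β : MulAut Q') : Q' ≃* Q') := (mem_autGroup_iff hQ'S).1 hβ'
  have hext : W' ≤ extender S Q' (Q'.subtype.comp (MulAut.congr e β).toMonoidHom) :=
    sup_le (le_extender hQ'S fun x => hQ'S ((MulAut.congr e β) x).2) (centralizerIn_le_extender _)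
  obtain ⟨φ₁, hφ₁, -, hag₁⟩ := hb.exists_extension (isReceptive_of_isFullyNormalized hS hF hQ')
    (le_sup_left (b := centralizerIn S Q')) hW'N
    fun g hg => (mem_extender_iff_congr _ (fun _ => rfl) (hW'N hg).1 (hW'N hg).2).1 (hext hg)
  have hφ₁W : ∀ w, φ₁ w ∈ W' := apply_mem_sup
    (fun x => by
      show φ₁ ⟨(x : Ω), _⟩ ∈ W'
      rw [hag₁ x]; exact Subgroup.mem_sup_left ((MulAut.congr e β) x).2)
    (fun c => Subgroup.mem_sup_right ⟨map_mem hφ₁ _,
      (map_mem_centralizer_iff_of_extends le_sup_left hag₁ _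
        (centralizer_le_normalizer Q' c.2.2)).2 c.2.2⟩)
  obtain ⟨α₁, hα₁, hα₁φ⟩ := exists_aut hφ₁ (range_eq_of_le (hom_inj hφ₁) hφ₁W)
  have hα₁Q : ∀ x : Q', ((α₁ (Subgroup.inclusion le_sup_left x) : W') : Ω) =
      ((MulAut.congr e β) x : Q') := fun x => (hα₁φ _).trans (hag₁ x)
  have hα₁C : ∀ c : W', (c : Ω) ∈ centralizerIn S Q' → ((α₁.symm c : W') : Ω) ∈ centralizerIn S Q' := by
    intro c hc
    refine ⟨hW'S (α₁.symm c).2, Subgroup.mem_centralizer_iff.2 fun q hq => ?_⟩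
    have h1 : α₁ (Subgroup.inclusion le_sup_left ⟨q, hq⟩) * c =
        c * α₁ (Subgroup.inclusion le_sup_left ⟨q, hq⟩) := Subtype.ext (by
      rw [Subgroup.coe_mul, Subgroup.coe_mul, hα₁Q]
      exact Subgroup.mem_centralizer_iff.1 hc.2 _ ((MulAut.congr e β) _).2)
    have h2 := congrArg (fun w => ((α₁.symm w : W') : Ω)) h1
    simpa using h2
  have ht'W : t' ∈ Subgroup.normalizer (W' : Set Ω) := by
    haveI : Finite ↥W' := inferInstance
    have key : ∀ w ∈ W', t' * w * t'⁻¹ ∈ W' := by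
      intro w hw
      have hle : W' ≤ W'.comap (MulAut.conj t').toMonoidHom := sup_le
        (fun q hq => Subgroup.mem_sup_left ((Subgroup.mem_normalizer_iff.1 ht'N.2 q).1 hq))
        fun c hc => Subgroup.mem_sup_right ⟨S.mul_mem (S.mul_mem (hTS ht'T) hc.1) (S.inv_mem (hTS ht'T)),
          Subgroup.mem_centralizer_iff.2 fun q hq => by
            show q * (t' * c * t'⁻¹) = t' * c * t'⁻¹ * q
            have hq' : t'⁻¹ * q * t' ∈ Q' := by
              simpa using (Subgroup.mem_normalizer_iff.1 (Subgroup.inv_mem _ ht'N.2) q).1 hq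
            have h := Subgroup.mem_centralizer_iff.1 hc.2 _ hq'
            calc q * (t' * c * t'⁻¹) = t' * (t'⁻¹ * q * t' * c) * t'⁻¹ := by group
              _ = t' * (c * (t'⁻¹ * q * t')) * t'⁻¹ := by rw [h]
              _ = t' * c * t'⁻¹ * q := by group⟩
      exact hle hw
    have hle : W'.map (MulAut.conj t').toMonoidHom ≤ W' := by
      rintro _ ⟨w, hw, rfl⟩
      exact key w hw
    have heq := Subgroup.eq_of_le_of_card_ge hle
      (le_of_eq (Subgroup.card_map_of_injective (MulAut.conj t').injective).symm)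
    rw [Subgroup.mem_normalizer_iff]
    intro w
    refine ⟨key w, fun hw => ?_⟩
    rw [← heq] at hw
    obtain ⟨v, hv, hvw⟩ := hw
    rwa [← (MulAut.conj t').injective hvw]
  let γ : MulAut W' := α₁ * conjAut W' t' ht'W * α₁⁻¹
  have hγ : γ ∈ F.autGroup W' := mul_mem (mul_mem hα₁ ((mem_autGroup_iff hW'S).2
    (isFIso_conjAut hW'S (hTS ht'T) ht'W))) (inv_mem hα₁)
  have hct : MulAut.congr e (conjAut Q t htQ) = conjAut Q' t' ht'N.2 :=
    congr_conjAut_eq_of_extends (le_normalizerIn hQS) hθag htN htQ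
  have hγQ : ∀ x : Q', ((γ (Subgroup.inclusion le_sup_left x) : W') : Ω) =
      ((MulAut.congr e (β * conjAut Q t htQ * β⁻¹)) x : Q') := by
    intro x
    rw [map_mul, map_mul, map_inv, hct]
    set y := ((MulAut.congr e β)⁻¹ : MulAut Q') x with hy
    have h1 : α₁.symm (Subgroup.inclusion le_sup_left x) = Subgroup.inclusion le_sup_left y := by
      apply α₁.injective
      rw [MulEquiv.apply_symm_apply]
      refine Subtype.ext ?_
      rw [hα₁Q, hy, MulAut.apply_inv_self]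
      rfl
    have h2 : conjAut W' t' ht'W (Subgroup.inclusion le_sup_left y) =
        Subgroup.inclusion le_sup_left (conjAut Q' t' ht'N.2 y) := Subtype.ext rfl
    show ((α₁ (conjAut W' t' ht'W (α₁.symm (Subgroup.inclusion le_sup_left x))) : W') : Ω) = _
    rw [h1, h2, hα₁Q]
    rfl
  have hγC : ∀ c : W', (c : Ω) ∈ centralizerIn S Q' →
      (c : Ω)⁻¹ * ((γ c : W') : Ω) ∈ Q' ⊓ Subgroup.centralizer (Q' : Set Ω) := by
    intro c hc
    set c₀ := α₁.symm c with hc₀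
    have hc₀C := hα₁C c hc
    have hconj : t' * (c₀ : Ω) * t'⁻¹ ∈ centralizerIn S Q' := by
      refine ⟨S.mul_mem (S.mul_mem (hTS ht'T) hc₀C.1) (S.inv_mem (hTS ht'T)),
        Subgroup.mem_centralizer_iff.2 fun q hq => ?_⟩
      have hq' : t'⁻¹ * q * t' ∈ Q' := by
        simpa using (Subgroup.mem_normalizer_iff.1 (Subgroup.inv_mem _ ht'N.2) q).1 hq
      have h := Subgroup.mem_centralizer_iff.1 hc₀C.2 _ hq'
      calc q * (t' * c₀ * t'⁻¹) = t' * (t'⁻¹ * q * t' * c₀) * t'⁻¹ := by group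
        _ = t' * (c₀ * (t'⁻¹ * q * t')) * t'⁻¹ := by rw [h]
        _ = t' * c₀ * t'⁻¹ * q := by group
    have huC : (c₀ : Ω)⁻¹ * (t' * c₀ * t'⁻¹) ∈ centralizerIn S Q' :=
      mul_mem (Subgroup.inv_mem _ hc₀C) hconj
    have huT : (c₀ : Ω)⁻¹ * (t' * c₀ * t'⁻¹) ∈ T := by
      have h1 : (c₀ : Ω)⁻¹ * t' * (c₀ : Ω) ∈ T := by
        have := (Subgroup.mem_normalizer_iff.1
          (stronglyClosed_le_normalizer (normal_strong hE) (S.inv_mem hc₀C.1)) t').1 ht'T
        simpa using this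
      have h2 := T.mul_mem h1 (T.inv_mem ht'T)
      simpa [mul_assoc] using h2
    let u : Q' := ⟨_, hCT ⟨huT, huC.2⟩⟩
    have huCent : (u : Ω) ∈ Subgroup.centralizer (Q' : Set Ω) := huC.2
    have h1 : conjAut W' t' ht'W c₀ = c₀ * Subgroup.inclusion le_sup_left u :=
      Subtype.ext (show t' * (c₀ : Ω) * t'⁻¹ = c₀ * ((c₀ : Ω)⁻¹ * (t' * c₀ * t'⁻¹)) by group)
    have h2 : γ c = c * α₁ (Subgroup.inclusion le_sup_left u) := by
      show α₁ (conjAut W' t' ht'W c₀) = _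
      rw [h1, map_mul, hc₀, MulEquiv.apply_symm_apply]
    rw [h2, Subgroup.coe_mul, inv_mul_cancel_left, hα₁Q]
    exact aut_apply_mem_center _ huCent
  -- back to `Q ⊔ Y`
  have hCQ : ∀ y ∈ Y, y ∈ centralizerIn S Q := fun y hy =>
    ⟨(hY hy).1, Subgroup.centralizer_le hQT (hY hy).2⟩
  have hQY : Q ⊔ Y ≤ normalizerIn S Q := sup_le (le_normalizerIn hQS)
    fun y hy => centralizerIn_le_normalizerIn S Q (hCQ y hy)
  have hg₁ := restrict_mem hθ hQY
  set g₁ := θ.comp (Subgroup.inclusion hQY) with hg₁def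
  have hg₁Q : ∀ x : Q, g₁ (Subgroup.inclusion le_sup_left x) = e x := fun x => hθag x
  have hg₁Y : ∀ y : Y, g₁ (Subgroup.inclusion le_sup_right y) ∈ centralizerIn S Q' := fun y =>
    ⟨map_mem hg₁ _, (map_mem_centralizer_iff_of_extends (le_normalizerIn hQS) hθag
      (hQY (Subgroup.mem_sup_right y.2)) (centralizer_le_normalizer Q (hCQ y y.2).2)).2 (hCQ y y.2).2⟩
  have hg₁W : ∀ w, g₁ w ∈ W' := apply_mem_sup
    (fun x => by rw [hg₁Q]; exact Subgroup.mem_sup_left (e x).2)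
    fun y => Subgroup.mem_sup_right (hg₁Y y)
  have hγhom : W'.subtype.comp γ.toMonoidHom ∈ F.Hom W' := (mem_autGroup_iff_hom hW'S).1 hγ
  have hG := F.comp_mem hg₁ hγhom hg₁W
  set G := (W'.subtype.comp γ.toMonoidHom).comp (g₁.codRestrict W' hg₁W) with hGdef
  have hQ'range : Q' ≤ g₁.range := fun y hy =>
    ⟨Subgroup.inclusion le_sup_left (e.symm ⟨y, hy⟩), by rw [hg₁Q, MulEquiv.apply_symm_apply]⟩
  have hGQ : ∀ x : Q, G (Subgroup.inclusion le_sup_left x) =
      ((e ((β * conjAut Q t htQ * β⁻¹) x) : Q') : Ω) := by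
    intro x
    show ((γ ⟨g₁ (Subgroup.inclusion le_sup_left x), _⟩ : W') : Ω) = _
    rw [show (⟨g₁ (Subgroup.inclusion le_sup_left x), hg₁W _⟩ : W') =
      Subgroup.inclusion le_sup_left (e x) from Subtype.ext (hg₁Q x), hγQ, congr_apply,
      MulEquiv.symm_apply_apply]
  have hGY : ∀ y : Y, (g₁ (Subgroup.inclusion le_sup_right y))⁻¹ * G (Subgroup.inclusion le_sup_right y)
      ∈ Q' ⊓ Subgroup.centralizer (Q' : Set Ω) := fun y =>
    hγC ⟨g₁ (Subgroup.inclusion le_sup_right y), hg₁W _⟩ (hg₁Y y)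
  have hGrange : ∀ w, G w ∈ g₁.range := apply_mem_sup
    (fun x => by rw [hGQ]; exact hQ'range (e _).2)
    fun y => by
      have := mul_mem (show g₁ (Subgroup.inclusion le_sup_right y) ∈ g₁.range from ⟨_, rfl⟩)
        (hQ'range (hGY y).1)
      rwa [mul_inv_cancel_left] at this
  obtain ⟨ρ, hρ, hρinv⟩ := F.inv_mem hg₁
  have hρQ : ∀ x : Q, ∀ h : ((e x : Q') : Ω) ∈ g₁.range, ρ ⟨(e x : Q'), h⟩ = (x : Ω) := fun x h => by
    refine Eq.trans (congrArg ρ (Subtype.ext ?_)) (hρinv (Subgroup.inclusion le_sup_left x))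
    exact (hg₁Q x).symm
  refine ⟨_, F.comp_mem hG hρ hGrange, fun x => ?_, fun y => ?_⟩
  · show ρ ⟨G (Subgroup.inclusion le_sup_left x), _⟩ = _
    rw [show (⟨G (Subgroup.inclusion le_sup_left x), hGrange _⟩ : g₁.range) =
      ⟨((e ((β * conjAut Q t htQ * β⁻¹) x) : Q') : Ω), hQ'range (e _).2⟩ from Subtype.ext (hGQ x), hρQ]
  · show (y : Ω)⁻¹ * ρ ⟨G (Subgroup.inclusion le_sup_right y), _⟩ ∈ _
    set z : Q' := ⟨_, (hGY y).1⟩ with hz
    rw [show (⟨G (Subgroup.inclusion le_sup_right y), hGrange _⟩ : g₁.range) =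
      ⟨g₁ (Subgroup.inclusion le_sup_right y), ⟨_, rfl⟩⟩ * ⟨(z : Ω), hQ'range z.2⟩ from
      Subtype.ext (show G _ = g₁ _ * ((g₁ _)⁻¹ * G _) by rw [mul_inv_cancel_left]), map_mul, hρinv]
    rw [show (⟨(z : Ω), hQ'range z.2⟩ : g₁.range) =
      ⟨((e (e.symm z) : Q') : Ω), hQ'range (e _).2⟩ from
      Subtype.ext (by rw [MulEquiv.apply_symm_apply]), hρQ, show
      ((Subgroup.inclusion le_sup_right y : ↥(Q ⊔ Y)) : Ω) = (y : Ω) from rfl, inv_mul_cancel_left]
    refine ⟨(e.symm z).2, Subgroup.mem_centralizer_iff.2 fun q hq => ?_⟩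
    have h : e ⟨q, hq⟩ * z = z * e ⟨q, hq⟩ :=
      Subtype.ext (Subgroup.mem_centralizer_iff.1 (hGY y).2 _ (e ⟨q, hq⟩).2)
    have h' := congrArg (fun w => ((e.symm w : Q) : Ω)) h
    simpa using h'

/-- Frattini generation of `Aut_E(Q)`. -/
theorem autE_le_of_conjT [Finite T] [Fact p.Prime] (hT : IsPGroup p T) (hsat : E.IsSaturated p)
    (hQ : E.IsFullyNormalized Q) (H : Subgroup (MulAut Q))
    (hconj : ∀ β ∈ E.autGroup Q, ∀ a ∈ autInducedBy T Q, β * a * β⁻¹ ∈ H)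
    (hnorm : ∀ α ∈ E.autGroup Q, (∀ a ∈ autInducedBy T Q, α * a * α⁻¹ ∈ autInducedBy T Q) → α ∈ H) :
    E.autGroup Q ≤ H := by
  haveI : Finite Q := finite_of_le hQ.1
  haveI : Finite (MulAut Q) := finite_mulAut
  obtain ⟨P₀, hP₀⟩ := (isFullyAutomized_of_isFullyNormalized hT hsat hQ).2
  let N : Subgroup (E.autGroup Q) := Subgroup.normalClosure ((P₀ : Subgroup (E.autGroup Q)) : Set _)
  have hNH : N ≤ H.comap (E.autGroup Q).subtype := by
    show Subgroup.closure _ ≤ _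
    refine (Subgroup.closure_le _).2 fun x hx => ?_
    obtain ⟨y, hy, hc⟩ := Group.mem_conjugatesOfSet_iff.1 hx
    obtain ⟨b, hb⟩ := isConj_iff.1 hc
    subst hb
    have hy' : (y : MulAut Q) ∈ autInducedBy T Q := by
      rw [SetLike.mem_coe, hP₀] at hy
      exact hy
    exact hconj b b.2 y hy'
  intro α hα
  have htop := Sylow.normalizer_sup_eq_top' P₀ (Subgroup.subset_normalClosure (s := _) : _ ≤ N)
  obtain ⟨n, hn, l, hl, hnl⟩ := (Subgroup.mem_sup_of_normal_right (t := N)).1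
    (htop ▸ Subgroup.mem_top (⟨α, hα⟩ : E.autGroup Q))
  have hmem : (n : MulAut Q) ∈ H := by
    refine hnorm n n.2 fun a ha => ?_
    have haP : (⟨a, autInducedBy_le_autGroup E hQ.1 ha⟩ : E.autGroup Q) ∈
        (P₀ : Subgroup (E.autGroup Q)) := by rw [hP₀]; exact ha
    have h := (Subgroup.mem_normalizer_iff.1 hn _).1 haP
    rw [hP₀] at h
    exact h
  exact (show (n : MulAut Q) * (l : MulAut Q) = α from congrArg Subtype.val hnl) ▸
    H.mul_mem hmem (hNH hl)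

/-- An element of `Aut_E(Q)` conjugating `Aut_U(Q)` into `Aut_T(Q)` extends to `U`. -/
theorem autE_extends [Finite T] [Fact p.Prime] (hT : IsPGroup p T) (hsat : E.IsSaturated p)
    (hQ : E.IsFullyNormalized Q) {α : MulAut Q} (hα : α ∈ E.autGroup Q) {U : Subgroup Ω}
    (hQU : Q ≤ U) (hU : U ≤ normalizerIn T Q)
    (hact : ∀ a ∈ autInducedBy U Q, α * a * α⁻¹ ∈ autInducedBy T Q) :
    ∃ χ ∈ E.Hom U, ∀ x : Q, χ ⟨x, hQU x.2⟩ = ((α x : Q) : Ω) := by
  have he : IsFIso E (α : Q ≃* Q) := (mem_autGroup_iff hQ.1).1 hα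
  obtain ⟨χ, hχ, -, hag⟩ := he.exists_extension (isReceptive_of_isFullyNormalized hT hsat hQ) hQU hU
    fun g hg => hact _ (conjAut_mem_autInducedBy hg (hU hg).2)
  exact ⟨χ, hχ, hag⟩

/-- Every map of `E` with source `P` extends over `Y` fixing it. -/
def Good (E : Cfsg.FusionSystem T) (F : Cfsg.FusionSystem S) (Y P : Subgroup Ω) : Prop :=
  ∀ φ ∈ E.Hom P, FixExt F Y φ

theorem mem_fixAut_of_extends {U : Subgroup Ω} (hU : Good E F Y U) {χ : U →* Ω} (hχ : χ ∈ E.Hom U)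
    (hQU : Q ≤ U) {α : MulAut Q} (h : ∀ x : Q, χ ⟨x, hQU x.2⟩ = ((α x : Q) : Ω)) :
    α ∈ fixAut F Y Q :=
  fixExt_restrict (hU χ hχ) hQU _ fun x => (h x).symm

/-- Goodness from goodness of normalizers and of the automorphisms of a fully normalized conjugate. -/
theorem good_of_fn [Finite T] [Fact p.Prime] (hT : IsPGroup p T) (hsat : E.IsSaturated p)
    (hQ : E.IsFullyNormalized Q) (hPQ : E.IsConj P Q)
    (hN : ∀ R, E.IsConj R Q → Good E F Y (normalizerIn T R))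
    (hA : ∀ α ∈ E.autGroup Q, α ∈ fixAut F Y Q) : Good E F Y P := by
  intro φ hφ
  obtain ⟨f, hf, hfφ⟩ := exists_iso hφ rfl
  have hPR : E.IsConj P φ.range := ⟨φ, hφ, rfl⟩
  have hlift : ∀ {R : Subgroup Ω}, E.IsConj R Q → ∃ e : R ≃* Q, IsFIso E e ∧
      FixExt F Y (Q.subtype.comp e.toMonoidHom) := by
    intro R hR
    obtain ⟨e, he, ψ, hψ, -, hag⟩ := exists_normalizer_map hT hsat hQ hR
    exact ⟨e, he, fixExt_restrict (hN R hR ψ hψ) (le_normalizerIn (isConj_le_left hR)) _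
      fun x => (hag x).symm⟩
  obtain ⟨e₁, he₁, hfe₁⟩ := hlift hPQ
  obtain ⟨e₂, he₂, hfe₂⟩ := hlift (isConj_trans (isConj_symm hPR) hPQ)
  have hα : (e₁.symm.trans (f.trans e₂) : MulAut Q) ∈ E.autGroup Q :=
    (mem_autGroup_iff hQ.1).2 (he₁.symm.trans (hf.trans he₂))
  let α : MulAut Q := e₁.symm.trans (f.trans e₂)
  have h1 : FixExt F Y (Q.subtype.comp (α.toMonoidHom.comp e₁.toMonoidHom)) :=
    fixExt_comp hfe₁ (hA α hα) (fun x => (e₁ x).2) _ fun _ => rfl
  refine fixExt_comp h1 (fixExt_symm hfe₂) (fun x => (α (e₁ x)).2) _ fun x => ?_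
  show φ x = ((e₂.symm (e₂ (f (e₁.symm (e₁ x)))) : φ.range) : Ω)
  rw [MulEquiv.symm_apply_apply, MulEquiv.symm_apply_apply, hfφ]

/-- The normalizers of the proper conjugates are larger. -/
theorem lt_normalizerIn_of_conj [Finite T] [Fact p.Prime] (hT : IsPGroup p T) (hQ : Q < T)
    (hR : E.IsConj R Q) : R < normalizerIn T R ∧ Nat.card Q < Nat.card (normalizerIn T R) := by
  have hRT : R < T := lt_of_le_of_ne (isConj_le_left hR) fun h => by
    subst h
    exact hQ.ne (isConj_top_eq hR)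
  have h := lt_normalizerIn hT hRT
  refine ⟨h, ?_⟩
  rw [← isConj_card_eq hR]
  exact card_lt_card' (normalizerIn_le T R) h

/-- A non-centric fully normalized subgroup: all automorphisms extend properly. -/
theorem fixAut_of_not_centric [Finite T] [Fact p.Prime] (hT : IsPGroup p T) (hsat : E.IsSaturated p)
    (hQ : E.IsFullyNormalized Q) (hC : ¬ E.IsCentric Q)
    (hbig : ∀ U, Q < U → U ≤ T → Good E F Y U) : ∀ α ∈ E.autGroup Q, α ∈ fixAut F Y Q := by
  intro α hα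
  have hnot : ¬ centralizerIn T Q ≤ Q := fun h =>
    hC (isCentric_of_isFullyCentralized hT hsat (isFullyCentralized_of_isFullyNormalized hT hsat hQ) h)
  let U := Q ⊔ centralizerIn T Q
  have hlt : Q < U := lt_of_le_of_ne le_sup_left fun h => hnot (le_sup_right.trans h.ge)
  have hU : U ≤ normalizerIn T Q :=
    sup_le (le_normalizerIn hQ.1) (centralizerIn_le_normalizerIn T Q)
  obtain ⟨χ, hχ, hag⟩ := autE_extends hT hsat hQ hα hlt.le hU fun a ha => by
    obtain ⟨g, hg, hgU, rfl⟩ := exists_eq_conjAut ha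
    have hext : U ≤ extender T Q (Q.subtype.comp α.toMonoidHom) :=
      sup_le (le_extender hQ.1 fun x => hQ.1 (α x).2) (centralizerIn_le_extender _)
    exact (mem_extender_iff_congr (α : Q ≃* Q) (fun _ => rfl) (hU hgU).1 hg).1 (hext hgU)
  exact mem_fixAut_of_extends (hbig U hlt (hU.trans (normalizerIn_le T Q))) hχ hlt.le hag

/-- The automorphisms of `T` in `E` are near the identity on `C_S(T)`. -/
theorem top_near (hE : E.IsNormalIn F p) (hY : Y ≤ centralizerIn S T) {α : MulAut T}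
    (hα : α ∈ E.autGroup T) : α ∈ Near F Y T := by
  obtain ⟨β, hβ, hβT, hβC⟩ := hE.2 α hα
  have hW : T ⊔ centralizerIn S T ≤ S := sup_le (normal_le hE) (centralizerIn_le S T)
  exact ⟨_, restrict_mem ((mem_autGroup_iff_hom hW).1 hβ) (sup_le_sup_left hY T), fun x => hβT x,
    fun y => hβC ⟨y, Subgroup.mem_sup_right (hY y.2)⟩ (hY y.2)⟩

end CfsgLib.NormalCent
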