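import Cfsg.Agent.Lib.Fusion.NormalCent.Near

/-!
# The commutators of `C_S(T)` centralize a normal subsystem over `T`
-/

set_option autoImplicit false

namespace CfsgLib.NormalCent

open Cfsg Cfsg.FusionSystem CfsgLib.Fusion
open scoped commutatorElement

variable {Ω : Type*} [Group Ω] {S T : Subgroup Ω} {F : Cfsg.FusionSystem S} {E : Cfsg.FusionSystem T}
variable {P Q R Y : Subgroup Ω} {p : ℕ}

/-- Goodness everywhere means that `E` lies in every centralizer system of `Y`. -/
theorem isSubsystemOf_centralizerSystem (hE : E.IsNormalIn F p) (hY : Y ≤ centralizerIn S T)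
    (h : ∀ R, R ≤ T → Good E F Y R) (C : Cfsg.FusionSystem (centralizerIn S Y))
    (hC : F.IsCentralizerSystem Y C) : E.IsSubsystemOf C := by
  intro P φ hφ
  rw [hC P]
  have hcent : ∀ w ∈ T, w ∈ centralizerIn S Y := fun w hw => ⟨normal_le hE hw,
    Subgroup.mem_centralizer_iff.2 fun y hy => (Subgroup.mem_centralizer_iff.1 (hY hy).2 w hw).symm⟩
  exact ⟨normal_sub hE P hφ, fun w hw => hcent w (dom_le hφ hw), fun x => hcent _ (map_mem hφ x),
    h P (dom_le hφ) φ hφ⟩

theorem commutator_centralizer_le : ⁅centralizerIn S T, centralizerIn S T⁆ ≤ centralizerIn S T :=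
  Subgroup.commutator_le.2 fun _ ha _ hb =>
    mul_mem (mul_mem (mul_mem ha hb) (Subgroup.inv_mem _ ha)) (Subgroup.inv_mem _ hb)

theorem good_commutator [Finite S] [Fact p.Prime] (hS : IsPGroup p S) (hF : F.IsSaturated p)
    (hE : E.IsNormalIn F p) :
    ∀ R, R ≤ T → Good E F ⁅centralizerIn S T, centralizerIn S T⁆ R := by
  haveI := normal_finite hE
  have hTp : IsPGroup p T := isPGroup_of_le hS (normal_le hE)
  have hsat := normal_sat hE
  set C := centralizerIn S T with hCdef
  have hYC : ⁅C, C⁆ ≤ C := commutator_centralizer_le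
  have hYS : ⁅C, C⁆ ≤ S := hYC.trans (centralizerIn_le S T)
  have hCQ : ∀ {Q : Subgroup Ω}, Q ≤ T → ∀ c ∈ C, ∀ q ∈ Q, c * q = q * c := fun hQ c hc q hq =>
    (Subgroup.mem_centralizer_iff.1 hc.2 q (hQ hq)).symm
  suffices ∀ (n : ℕ) (R : Subgroup Ω), R ≤ T → Nat.card T ≤ Nat.card R + n →
      Good E F ⁅C, C⁆ R from fun R hR => this (Nat.card T) R hR (Nat.le_add_left _ _)
  intro n
  induction n using Nat.strong_induction_on with
  | _ n ih =>
  intro R hR hn
  have hbig : ∀ U, U ≤ T → Nat.card R < Nat.card U → Good E F ⁅C, C⁆ U := fun U hU hlt => by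
    have : Nat.card U ≤ Nat.card T := Nat.card_le_card_of_injective _ (Subgroup.inclusion_injective hU)
    exact ih (Nat.card T - Nat.card U) (by omega) U hU (by omega)
  rcases eq_or_lt_of_le hR with rfl | hlt
  · intro φ hφ
    obtain ⟨α, hα, hαφ⟩ := exists_aut hφ (isConj_top_eq ⟨φ, hφ, rfl⟩)
    exact fixExt_restrict (fixAut_of_near le_rfl (hCQ le_rfl) (top_near hE le_rfl hα)) le_rfl φ
      fun x => (hαφ x).symm
  obtain ⟨Q, hRQ, hQ⟩ := exists_isFullyNormalized E hR
  have hcard := isConj_card_eq hRQ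
  have hQT : Q < T := lt_of_le_of_ne hQ.1 fun h => by
    have h1 := card_lt_card' le_rfl hlt
    rw [h] at hcard
    omega
  have hN : ∀ R', E.IsConj R' Q → Good E F ⁅C, C⁆ (normalizerIn T R') := fun R' hR' =>
    hbig _ (normalizerIn_le T R') (hcard ▸ (lt_normalizerIn_of_conj hTp hQT hR').2)
  refine good_of_fn hTp hsat hQ hRQ hN ?_
  by_cases hc : E.IsCentric Q
  · intro α hα
    refine autE_le_of_conjT hTp hsat hQ (fixAutGroup F (hQ.1.trans (normal_le hE)) hYS) ?_ ?_ hα
    · intro β hβ a ha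
      obtain ⟨t, ht, htT, rfl⟩ := exists_eq_conjAut ha
      exact fixAut_of_near le_rfl (hCQ hQ.1) (conjT_near hS hF hE hc le_rfl hβ htT ht)
    · intro β hβ hnorm
      have hsub : autInducedBy (normalizerIn T Q) Q ≤ autInducedBy T Q :=
        autInducedBy_mono (normalizerIn_le T Q) Q
      obtain ⟨χ, hχ, hag⟩ := autE_extends hTp hsat hQ hβ (le_normalizerIn hQ.1) le_rfl
        fun a ha => hnorm a (hsub ha)
      exact mem_fixAut_of_extends (hN Q (isConj_refl E hQ.1)) hχ (le_normalizerIn hQ.1) hag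
  · exact fixAut_of_not_centric hTp hsat hQ hc fun U hU hUT =>
      hbig U hUT (hcard ▸ card_lt_card' hUT hU)

/-- The first part of the theorem. -/
theorem commutator_le_of_centralizer [Finite S] [Fact p.Prime] (hS : IsPGroup p S)
    (hF : F.IsSaturated p) (hE : E.IsNormalIn F p)
    (hCE : ∀ Y : Subgroup Ω, Y ≤ centralizerIn S T →
      (∀ C : Cfsg.FusionSystem (centralizerIn S Y), F.IsCentralizerSystem Y C → E.IsSubsystemOf C) →
      Y ≤ T) :
    ⁅T ⊔ centralizerIn S T, T ⊔ centralizerIn S T⁆ ≤ T := by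
  have hY := hCE _ commutator_centralizer_le fun C hC =>
    isSubsystemOf_centralizerSystem hE commutator_centralizer_le (good_commutator hS hF hE) C hC
  have hcomm : ∀ t ∈ T, ∀ c ∈ centralizerIn S T, t * c = c * t := fun t ht c hc =>
    Subgroup.mem_centralizer_iff.1 hc.2 t ht
  rw [Subgroup.commutator_le]
  intro a ha b hb
  have hmem : ∀ w ∈ T ⊔ centralizerIn S T, ∃ t ∈ T, ∃ c ∈ centralizerIn S T, t * c = w := by
    intro w hw
    have hn : centralizerIn S T ≤ Subgroup.normalizer (T : Set Ω) :=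
      inf_le_right.trans (centralizer_le_normalizer T)
    rw [← SetLike.mem_coe, Subgroup.coe_mul_of_right_le_normalizer_left T _ hn] at hw
    exact Set.mem_mul.1 hw
  obtain ⟨t, ht, c, hc, rfl⟩ := hmem a ha
  obtain ⟨t', ht', c', hc', rfl⟩ := hmem b hb
  have e : ⁅t * c, t' * c'⁆ = ⁅t, t'⁆ * ⁅c, c'⁆ := by
    have h1 : Commute c t' := (hcomm t' ht' c hc).symm
    have h2 : Commute t c' := hcomm t ht c' hc'
    have h3 : Commute t c := hcomm t ht c hc
    have h4 : Commute t' c' := hcomm t' ht' c' hc'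
    rw [commutatorElement_def, commutatorElement_def, commutatorElement_def]
    calc t * c * (t' * c') * (t * c)⁻¹ * (t' * c')⁻¹
        = t * (c * t' * c⁻¹) * (c * c' * c⁻¹) * t⁻¹ * (c'⁻¹ * t'⁻¹) := by group
      _ = t * t' * ((c * c' * c⁻¹) * t⁻¹) * (c'⁻¹ * t'⁻¹) := by
          rw [h1.eq, mul_inv_cancel_right]; group
      _ = t * t' * (t⁻¹ * (c * c' * c⁻¹)) * (c'⁻¹ * t'⁻¹) := by
          rw [((h3.mul_right h2).mul_right h3.inv_right).inv_left.eq]
      _ = t * t' * t⁻¹ * ((c * c' * c⁻¹ * c'⁻¹) * t'⁻¹) := by group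
      _ = t * t' * t⁻¹ * (t'⁻¹ * (c * c' * c⁻¹ * c'⁻¹)) := by
          rw [(((((h1.symm).mul_right h4).mul_right h1.symm.inv_right).mul_right
            h4.inv_right)).inv_left.eq]
      _ = t * t' * t⁻¹ * t'⁻¹ * (c * c' * c⁻¹ * c'⁻¹) := by group
  rw [e]
  exact T.mul_mem (mul_mem (mul_mem (mul_mem ht ht') (T.inv_mem ht)) (T.inv_mem ht'))
    (hY (Subgroup.commutator_mem_commutator hc hc'))

end CfsgLib.NormalCent
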