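import Cfsg.Agent.Lib.Fusion.NormalCent.CaseA
import Cfsg.Agent.Lib.Fusion.NormalCent.CaseB
import Cfsg.Agent.Lib.Fusion.NormalCent.Base
import Cfsg.Agent.Lib.Fusion.NormalCent.One
import Cfsg.Agent.Lib.Fusion.AbLevel

/-!
# For odd `p`: `C_S(T) ≤ T`
-/

set_option autoImplicit false

namespace CfsgLib.NormalCent

open Cfsg Cfsg.FusionSystem CfsgLib.Fusion CfsgLib.AbLevel
open scoped Pointwise

variable {Ω : Type*} [Group Ω] {S T : Subgroup Ω} {F : Cfsg.FusionSystem S} {E : Cfsg.FusionSystem T}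
variable {P Q R U X : Subgroup Ω} {p : ℕ} {x : Ω}

/-- The level of `R`: largest abelian order, then the order of the join. -/
noncomputable def level (T R : Subgroup Ω) : ℕ := dA R * (Nat.card T + 1) + Nat.card (JA R)

/-- The induction measure. -/
noncomputable def meas (T R : Subgroup Ω) : ℕ := level T R * (Nat.card T + 1) + Nat.card R

theorem card_le_of_le [Finite T] (h : R ≤ T) : Nat.card R ≤ Nat.card T :=
  Nat.card_le_card_of_injective _ (Subgroup.inclusion_injective h)

theorem level_mono [Finite T] (hRU : R ≤ U) (hU : U ≤ T) : level T R ≤ level T U := by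
  haveI := AbLevel.finite_le hU
  unfold level
  rcases lt_or_eq_of_le (dA_mono hRU) with h | h
  · have h1 := card_le_of_le ((JA_le R).trans (hRU.trans hU))
    have h2 := Nat.mul_le_mul_right (Nat.card T + 1) h
    rw [Nat.succ_mul] at h2
    omega
  · haveI := AbLevel.finite_le (A := JA U) (JA_le U)
    have h1 : Nat.card (JA R) ≤ Nat.card (JA U) := card_le_of_le (JA_mono_of_dA_eq hRU h)
    rw [h]
    omega

theorem level_lt [Finite T] (hRU : R ≤ U) (hU : U ≤ T) (hJ : ¬ JA U ≤ R) : level T R < level T U := by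
  haveI := AbLevel.finite_le hU
  unfold level
  rcases lt_or_eq_of_le (dA_mono hRU) with h | h
  · have h1 := card_le_of_le ((JA_le R).trans (hRU.trans hU))
    have h2 := Nat.mul_le_mul_right (Nat.card T + 1) h
    rw [Nat.succ_mul] at h2
    omega
  · have hle := JA_mono_of_dA_eq hRU h
    have hlt : JA R < JA U := lt_of_le_of_ne hle fun he => hJ (he ▸ JA_le R)
    have h1 := card_lt_card' ((JA_le U).trans hU) hlt
    rw [h]
    omega

theorem meas_lt_of_level [Finite T] (hR : R ≤ T) (h : level T R < level T U) :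
    meas T R < meas T U := by
  unfold meas
  have h1 := card_le_of_le hR
  have h2 := Nat.mul_le_mul_right (Nat.card T + 1) h
  rw [Nat.succ_mul] at h2
  omega

theorem meas_lt [Finite T] (hRU : R < U) (hU : U ≤ T) : meas T R < meas T U := by
  rcases lt_or_eq_of_le (level_mono hRU.le hU) with h | h
  · exact meas_lt_of_level (hRU.le.trans hU) h
  · have h1 := card_lt_card' hU hRU
    unfold meas
    rw [h]
    omega

theorem conj_invariants [Finite T] (h : E.IsConj R Q) :
    dA Q = dA R ∧ level T Q = level T R ∧ meas T Q = meas T R ∧ (JA R = R → JA Q = Q) := by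
  obtain ⟨φ, hφ, rfl⟩ := h
  haveI : Finite R := finite_of_le (dom_le hφ)
  obtain ⟨hd, hJ⟩ := map_dA_JA (hom_inj hφ) (le_refl R)
  rw [map_subgroupOf_self] at hd hJ
  have hc : Nat.card (JA φ.range) = Nat.card (JA R) := by
    rw [hJ, Subgroup.card_map_of_injective (hom_inj hφ),
      Nat.card_congr (Subgroup.subgroupOfEquivOfLe (JA_le R)).toEquiv]
  have hl : level T φ.range = level T R := by rw [level, level, hd, hc]
  refine ⟨hd, hl, ?_, fun hR => ?_⟩
  · rw [meas, meas, hl, ← isConj_card_eq ⟨φ, hφ, rfl⟩]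
  · rw [hJ, hR, map_subgroupOf_self]

theorem JA_aut_mem [Finite Q] (α : MulAut Q) {q : Q} (hq : (q : Ω) ∈ JA Q) :
    ((α q : Q) : Ω) ∈ JA Q := by
  have hinj : Function.Injective (Q.subtype.comp α.toMonoidHom) := Q.subtype_injective.comp α.injective
  obtain ⟨-, hJ⟩ := map_dA_JA hinj (le_refl Q)
  rw [map_subgroupOf_self, range_subtype_comp (α : Q ≃* Q)] at hJ
  rw [hJ]
  exact ⟨q, hq, rfl⟩

theorem normalizer_le_normalizer_JA [Finite Q] :
    Subgroup.normalizer (Q : Set Ω) ≤ Subgroup.normalizer (JA Q : Set Ω) := by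
  intro g hg
  have key : ∀ g ∈ Subgroup.normalizer (Q : Set Ω), ∀ w ∈ JA Q, g * w * g⁻¹ ∈ JA Q :=
    fun g hg w hw => JA_aut_mem (conjAut Q g hg) (q := ⟨w, JA_le Q hw⟩) hw
  rw [Subgroup.mem_normalizer_iff]
  refine fun w => ⟨key g hg w, fun hw => ?_⟩
  have := key g⁻¹ (Subgroup.inv_mem _ hg) _ hw
  simpa [mul_assoc] using this

/-- To see `C_T(X) ≤ Q` it suffices to look inside the normalizer of `Q`. -/
theorem centralizerIn_le_of_normalizer [Finite T] [Fact p.Prime] (hT : IsPGroup p T)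
    (hQT : Q ≤ T) (hQX : Q ≤ Subgroup.normalizer (X : Set Ω))
    (h : ∀ c ∈ centralizerIn T X, c ∈ Subgroup.normalizer (Q : Set Ω) → c ∈ Q) :
    centralizerIn T X ≤ Q := by
  have hCN : centralizerIn T X ≤ normalizerIn T X := centralizerIn_le_normalizerIn T X
  haveI : Finite (normalizerIn T X) := finite_of_le (normalizerIn_le T X)
  refine le_of_normalizer_inf_le (S := normalizerIn T X) (p := p) (hT.to_le (normalizerIn_le T X))
    (fun q hq => ⟨hQT hq, hQX hq⟩) hCN ?_ h
  intro g hg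
  have key : ∀ g ∈ normalizerIn T X, ∀ c ∈ centralizerIn T X, g * c * g⁻¹ ∈ centralizerIn T X := by
    intro g hg c hc
    refine ⟨T.mul_mem (T.mul_mem hg.1 hc.1) (T.inv_mem hg.1), Subgroup.mem_centralizer_iff.2 fun w hw => ?_⟩
    have hw' : g⁻¹ * w * g ∈ X := by
      simpa using (Subgroup.mem_normalizer_iff.1 (Subgroup.inv_mem _ hg.2) w).1 hw
    have h := Subgroup.mem_centralizer_iff.1 hc.2 _ hw'
    calc w * (g * c * g⁻¹) = g * (g⁻¹ * w * g * c) * g⁻¹ := by group
      _ = g * (c * (g⁻¹ * w * g)) * g⁻¹ := by rw [h]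
      _ = g * c * g⁻¹ * w := by group
  rw [Subgroup.mem_normalizer_iff]
  refine fun w => ⟨key g hg w, fun hw => ?_⟩
  have := key g⁻¹ (Subgroup.inv_mem _ hg) _ hw
  simpa [mul_assoc] using this

/-- The join of `T` is the only subgroup of its invariants. -/
theorem eq_JA_top [Finite T] (hX : X ≤ T) (hJX : JA X = X) (h : level T X = level T (JA T)) :
    X = JA T := by
  haveI := AbLevel.finite_le hX
  obtain ⟨hi, hid⟩ := JA_idem (Q := T)
  unfold level at h
  rw [hJX, hi] at h
  rcases lt_trichotomy (dA X) (dA (JA T)) with hlt | heq | hgt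
  · have h1 := card_le_of_le hX
    have h2 := Nat.mul_le_mul_right (Nat.card T + 1) hlt
    rw [Nat.succ_mul] at h2
    omega
  · haveI := AbLevel.finite_le (A := JA T) (JA_le T)
    have hle : JA X ≤ JA T := JA_mono_of_dA_eq hX (heq.trans hid)
    rw [hJX] at hle
    rw [heq] at h
    exact Subgroup.eq_of_le_of_card_ge hle (le_of_eq (by omega))
  · exact absurd (hid ▸ hgt) (not_lt.2 (dA_mono hX))

/-- A subgroup with `JA X = X` is good once all subgroups of higher level are. -/
theorem good_of_JA_eq [Finite S] [Fact p.Prime] (hS : IsPGroup p S) (hF : F.IsSaturated p)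
    (hp : p ≠ 2) (hE : E.IsNormalIn F p) (hx : x ∈ centralizerIn S T)
    (hX : E.IsCentric X) (hJX : JA X = X)
    (hbase : Good E F (Subgroup.zpowers x) (JA T))
    (hhigh : ∀ U, U ≤ T → level T X < level T U → Good E F (Subgroup.zpowers x) U) :
    Good E F (Subgroup.zpowers x) X := by
  haveI := normal_finite hE
  have hTp : IsPGroup p T := isPGroup_of_le hS (normal_le hE)
  have hsat := normal_sat hE
  have hY : Subgroup.zpowers x ≤ centralizerIn S T := Subgroup.zpowers_le.2 hx
  by_cases hX0 : X = JA T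
  · exact hX0 ▸ hbase
  obtain ⟨Q, hXQ, hQ⟩ := exists_isFullyNormalized E hX.1
  have hlevel : ∀ R, E.IsConj R Q → level T R < level T (normalizerIn T R) := by
    intro R hR
    refine level_lt (le_normalizerIn (isConj_le_left hR)) (normalizerIn_le T R) fun hJ => hX0 ?_
    obtain ⟨-, hl, -, hJR⟩ := conj_invariants (isConj_trans hXQ (isConj_symm hR))
    haveI : Finite (normalizerIn T R) := finite_of_le (normalizerIn_le T R)
    obtain ⟨-, hJe⟩ := eq_of_JA_le (le_normalizerIn (isConj_le_left hR)) hJ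
    rw [hJR hJX] at hJe
    have hNT : normalizerIn T R = T := by
      by_contra hne
      have hlt := lt_normalizerIn hTp (lt_of_le_of_ne (normalizerIn_le T R) hne)
      refine hlt.not_ge fun g hg => ⟨hg.1, ?_⟩
      have := normalizer_le_normalizer_JA hg.2
      rwa [← hJe] at this
    rw [hNT] at hJe
    exact eq_JA_top hX.1 hJX (by rw [← hJe, hl])
  have hN : ∀ R, E.IsConj R Q → Good E F (Subgroup.zpowers x) (normalizerIn T R) := fun R hR =>
    hhigh _ (normalizerIn_le T R) (by
      rw [← (conj_invariants (isConj_trans hXQ (isConj_symm hR))).2.1]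
      exact hlevel R hR)
  refine good_of_fn hTp hsat hQ hXQ hN ?_
  have hQc : E.IsCentric Q := isCentric_of_isConj hX hXQ
  have hlQ := (conj_invariants hXQ).2.1
  have hnear : ∀ α ∈ E.autGroup Q, α ∈ Near F (Subgroup.zpowers x) Q := by
    intro α hα
    have hQS := hQ.1.trans (normal_le hE)
    refine closure_subset_near hQS (hY.trans (centralizerIn_le S T)) (Set.Subset.refl _) α
      (autE_le_of_conjT hTp hsat hQ (Subgroup.closure (Near F (Subgroup.zpowers x) Q)) ?_ ?_ hα)
    · intro β hβ a ha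
      obtain ⟨t, ht, htT, rfl⟩ := exists_eq_conjAut ha
      exact Subgroup.subset_closure (conjT_near hS hF hE hQc hY hβ htT ht)
    · intro β hβ hnorm
      obtain ⟨χ, hχ, hag⟩ := autE_extends hTp hsat hQ hβ (le_normalizerIn hQ.1) le_rfl
        fun a ha => hnorm a (autInducedBy_mono (normalizerIn_le T Q) Q ha)
      exact Subgroup.subset_closure (fixAut_subset_near
        (mem_fixAut_of_extends (hN Q (isConj_refl E hQ.1)) hχ (le_normalizerIn hQ.1) hag))
  -- a quadratic element
  haveI : Finite (normalizerIn T Q) := finite_of_le (normalizerIn_le T Q)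
  have hJ : ¬ JA (normalizerIn T Q) ≤ Q := fun h => by
    have := hlevel Q (isConj_refl E hQ.1)
    obtain ⟨h1, h2⟩ := eq_of_JA_le (le_normalizerIn hQ.1) h
    unfold level at this
    rw [h1, h2] at this
    omega
  obtain ⟨A, hA, hAQ⟩ : ∃ A, IsMax (normalizerIn T Q) A ∧ ¬ A ≤ Q := by
    by_contra h
    push Not at h
    exact hJ (sSup_le fun A hA => h A hA)
  let D : Subgroup Ω := Q ⊓ Subgroup.centralizer (Q : Set Ω)
  have hDc : IsMulCommutative D := IsMulCommutative.of_setLike_mul_comm fun a ha b hb =>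
    Subgroup.mem_centralizer_iff.1 hb.2 a ha.1
  have hAD : A ≤ Subgroup.normalizer (D : Set Ω) := fun a ha => by
    have haN := (hA.le ha).2
    have key : ∀ a ∈ Subgroup.normalizer (Q : Set Ω), ∀ d ∈ D, a * d * a⁻¹ ∈ D := fun a ha d hd =>
      aut_apply_mem_center (conjAut Q a ha) (z := ⟨d, hd.1⟩) hd.2
    rw [Subgroup.mem_normalizer_iff]
    refine fun w => ⟨key a haN w, fun hw => ?_⟩
    have := key a⁻¹ (Subgroup.inv_mem _ haN) _ hw
    simpa [mul_assoc] using this
  obtain ⟨A₂, hA₂, -, hquad, hout⟩ := exists_quadratic_max (hTp.to_le (normalizerIn_le T Q)) hA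
    (inf_le_left.trans (le_normalizerIn hQ.1)) hDc hAD
  have hA₂Q : ¬ A₂ ≤ Q := hout Q (fun r hr d hd => Subgroup.mem_centralizer_iff.1 hd.2 r hr) hAQ
  obtain ⟨t, htA, htQ⟩ := SetLike.not_le_iff_exists.1 hA₂Q
  refine fixAut_caseA hS hp hE hx hQ hnear (hA₂.le htA) htQ (hquad t htA) fun U hQU hUN hUq => ?_
  have hUT : U ≤ T := hUN.trans (normalizerIn_le T Q)
  refine hhigh U hUT ?_
  rw [← hlQ]
  have hA₂U : A₂ ≤ U := fun a ha => hUq a (hA₂.le ha) (hquad a ha)
  haveI := AbLevel.finite_le hUT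
  have hd : dA U = dA (normalizerIn T Q) := le_antisymm (dA_mono hUN)
    (hA₂.card_eq ▸ card_le_dA hA₂U hA₂.comm)
  exact level_lt hQU.le hUT fun h =>
    hA₂Q ((IsMax.le_JA ⟨hA₂U, hA₂.comm, hA₂.card_eq.trans hd.symm⟩).trans h)

/-- The main induction. -/
theorem good_of_base [Finite S] [Fact p.Prime] (hS : IsPGroup p S) (hF : F.IsSaturated p)
    (hp : p ≠ 2) (hE : E.IsNormalIn F p) (hx : x ∈ centralizerIn S T)
    (hfix : ∀ α ∈ E.autGroup (JA T), α ∈ fixAut F (Subgroup.zpowers x) (JA T)) :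
    ∀ R, R ≤ T → Good E F (Subgroup.zpowers x) R := by
  haveI := normal_finite hE
  have hTS := normal_le hE
  have hTp : IsPGroup p T := isPGroup_of_le hS hTS
  have hsat := normal_sat hE
  have hY : Subgroup.zpowers x ≤ centralizerIn S T := Subgroup.zpowers_le.2 hx
  obtain ⟨hJJ, hdJ⟩ := JA_idem (Q := T)
  have hbase : Good E F (Subgroup.zpowers x) (JA T) := by
    intro φ hφ
    obtain ⟨-, hl, -, hJR⟩ := conj_invariants (E := E) ⟨φ, hφ, rfl⟩
    obtain ⟨α, hα, hαφ⟩ := exists_aut hφ (eq_JA_top (range_le hφ) (hJR hJJ) hl)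
    exact fixExt_restrict (hfix α hα) le_rfl φ fun q => (hαφ q).symm
  have hJc : E.IsCentric (JA T) := by
    refine ⟨JA_le T, fun R hR => ?_⟩
    obtain ⟨-, hl, -, hJR⟩ := conj_invariants hR
    rw [eq_JA_top (isConj_le_right hR) (hJR hJJ) hl]
    exact fun c hc => centralizer_JA_le hc.1 fun a ha => Subgroup.mem_centralizer_iff.1 hc.2 a ha
  have hTgood : Good E F (Subgroup.zpowers x) T := by
    intro φ hφ
    obtain ⟨α, hα, hαφ⟩ := exists_aut hφ (isConj_top_eq ⟨φ, hφ, rfl⟩)
    have h := fixAut_caseB hS hF hE hY inferInstance (isFullyNormalized_top E) hJc (JA_le T)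
      (fun β _ q hq => JA_aut_mem β hq) hbase α hα
    exact fixExt_restrict h le_rfl φ fun q => (hαφ q).symm
  suffices ∀ (n : ℕ) (R : Subgroup Ω), R ≤ T → meas T T ≤ meas T R + n →
      Good E F (Subgroup.zpowers x) R from fun R hR => this (meas T T) R hR (Nat.le_add_left _ _)
  intro n
  induction n using Nat.strong_induction_on with
  | _ n ih =>
  intro R hR hn
  rcases eq_or_lt_of_le hR with rfl | hlt
  · exact hTgood
  have hbig : ∀ U, U ≤ T → meas T R < meas T U → Good E F (Subgroup.zpowers x) U := by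
    intro U hU hlt'
    have h1 : meas T U ≤ meas T T := by
      rcases eq_or_lt_of_le hU with rfl | h
      · exact le_rfl
      · exact (meas_lt h le_rfl).le
    exact ih (meas T T - meas T U) (by omega) U hU (by omega)
  obtain ⟨Q, hRQ, hQ⟩ := exists_isFullyNormalized E hR
  obtain ⟨-, hlQ, hmQ, -⟩ := conj_invariants hRQ
  have hQT : Q < T := lt_of_le_of_ne hQ.1 fun h => by
    have h1 := card_lt_card' le_rfl hlt
    have h2 := isConj_card_eq hRQ
    rw [h] at h2
    omega
  have hN : ∀ R', E.IsConj R' Q → Good E F (Subgroup.zpowers x) (normalizerIn T R') := fun R' hR' =>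
    hbig _ (normalizerIn_le T R') (by
      rw [← (conj_invariants (isConj_trans hRQ (isConj_symm hR'))).2.2.1]
      exact meas_lt (lt_normalizerIn_of_conj hTp hQT hR').1 (normalizerIn_le T R'))
  refine good_of_fn hTp hsat hQ hRQ hN ?_
  have hup : ∀ U, Q < U → U ≤ T → Good E F (Subgroup.zpowers x) U := fun U hU hUT =>
    hbig U hUT (hmQ ▸ meas_lt hU hUT)
  by_cases hQc : E.IsCentric Q
  swap
  · exact fixAut_of_not_centric hTp hsat hQ hQc hup
  haveI : Finite Q := finite_of_le hQ.1
  haveI : Finite (normalizerIn T Q) := finite_of_le (normalizerIn_le T Q)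
  set P' := normalizerIn T Q with hP'def
  have hQP : Q ≤ P' := le_normalizerIn hQ.1
  have hQS := hQ.1.trans hTS
  by_cases hq : ∃ t ∈ P', t ∉ Q ∧ QuadOn Q t
  · obtain ⟨t, ht, htQ, htq⟩ := hq
    refine fixAut_caseA hS hp hE hx hQ ?_ ht htQ htq
      fun U hU hUN _ => hup U hU (hUN.trans (normalizerIn_le T Q))
    intro α hα
    refine closure_subset_near hQS (hY.trans (centralizerIn_le S T)) (Set.Subset.refl _) α
      (autE_le_of_conjT hTp hsat hQ (Subgroup.closure (Near F (Subgroup.zpowers x) Q)) ?_ ?_ hα)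
    · intro β hβ a ha
      obtain ⟨t', ht', ht'T, rfl⟩ := exists_eq_conjAut ha
      exact Subgroup.subset_closure (conjT_near hS hF hE hQc hY hβ ht'T ht')
    · intro β hβ hnorm
      obtain ⟨χ, hχ, hag⟩ := autE_extends hTp hsat hQ hβ (le_normalizerIn hQ.1) le_rfl
        fun a ha => hnorm a (autInducedBy_mono (normalizerIn_le T Q) Q ha)
      exact Subgroup.subset_closure (fixAut_subset_near
        (mem_fixAut_of_extends (hN Q (isConj_refl E hQ.1)) hχ (le_normalizerIn hQ.1) hag))
  push Not at hq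
  let D : Subgroup Ω := Q ⊓ Subgroup.centralizer (Q : Set Ω)
  have hDc : IsMulCommutative D := IsMulCommutative.of_setLike_mul_comm fun a ha b hb =>
    Subgroup.mem_centralizer_iff.1 hb.2 a ha.1
  have hDn : P' ≤ Subgroup.normalizer (D : Set Ω) := fun a ha => by
    have key : ∀ a ∈ Subgroup.normalizer (Q : Set Ω), ∀ d ∈ D, a * d * a⁻¹ ∈ D := fun a ha d hd =>
      aut_apply_mem_center (conjAut Q a ha) (z := ⟨d, hd.1⟩) hd.2
    rw [Subgroup.mem_normalizer_iff]
    refine fun w => ⟨key a ha.2 w, fun hw => ?_⟩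
    have := key a⁻¹ (Subgroup.inv_mem _ ha.2) _ hw
    simpa [mul_assoc] using this
  have hJP : JA P' ≤ Q := sSup_le fun A hA => by
    by_contra hAQ
    obtain ⟨A₂, hA₂, -, hquad, hout⟩ := exists_quadratic_max (hTp.to_le (normalizerIn_le T Q)) hA
      (inf_le_left.trans hQP) hDc (hA.le.trans hDn)
    obtain ⟨t, htA, htQ⟩ := SetLike.not_le_iff_exists.1
      (hout Q (fun r hr d hd => Subgroup.mem_centralizer_iff.1 hd.2 r hr) hAQ)
    exact hq t (hA₂.le htA) htQ (hquad t htA)
  obtain ⟨hdP, hJe⟩ := eq_of_JA_le hQP hJP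
  set X := JA Q with hXdef
  have hDX : D ≤ X := fun d hd => by
    obtain ⟨A, hA⟩ := exists_isMax (R := Q)
    exact hA.le_JA (hA.mem_of_commute hd.1 fun a ha => Subgroup.mem_centralizer_iff.1 hd.2 a (hA.le ha))
  have hQX : Q ≤ Subgroup.normalizer (X : Set Ω) :=
    Subgroup.le_normalizer.trans normalizer_le_normalizer_JA
  have hCX : centralizerIn T X ≤ Q := centralizerIn_le_of_normalizer hTp hQ.1 hQX fun c hc hcN => by
    by_contra hcQ
    refine hq c ⟨hc.1, hcN⟩ hcQ fun d hd => ?_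
    have hcd : c * d = d * c := (Subgroup.mem_centralizer_iff.1 hc.2 d (hDX hd)).symm
    rw [hcd]
    simp
  have hXQ : X ≤ Q := JA_le Q
  have hXT : X ≤ T := hXQ.trans hQ.1
  obtain ⟨hJX, hdX⟩ := JA_idem (Q := Q)
  have hXc : E.IsCentric X := by
    obtain ⟨Xf, hXXf, hXf⟩ := exists_isFullyNormalized E hXT
    obtain ⟨e, he, ψ, hψ, -, hag⟩ := exists_normalizer_map hTp hsat hXf hXXf
    have hQN : Q ≤ normalizerIn T X := fun q hq' => ⟨hQ.1 hq', hQX hq'⟩
    set Q' := (Q.subgroupOf (normalizerIn T X)).map ψ with hQ'def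
    have hQQ' : E.IsConj Q Q' := ⟨_, restrict_mem hψ hQN, range_comp_inclusion hQN⟩
    obtain ⟨e', he', ψ', hψ', hψ'N, -⟩ := exists_normalizer_map hTp hsat hQ (isConj_symm hQQ')
    haveI : Finite (normalizerIn T Q') := finite_of_le (normalizerIn_le T Q')
    have hdQ' : dA (normalizerIn T Q') ≤ dA Q' := by
      obtain ⟨h1, -⟩ := map_dA_JA (hom_inj hψ') (le_refl (normalizerIn T Q'))
      rw [map_subgroupOf_self] at h1
      rw [← h1, (conj_invariants hQQ').1, hdP]
      exact dA_mono (by rintro _ ⟨w, rfl⟩; exact hψ'N w)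
    have hJQ' : JA Q' = Xf := by
      haveI : Finite (normalizerIn T X) := finite_of_le (normalizerIn_le T X)
      obtain ⟨-, h2⟩ := map_dA_JA (hom_inj hψ) hQN
      rw [h2]
      have hXN : X ≤ normalizerIn T X := le_normalizerIn hXT
      refine le_antisymm ?_ fun w hw => ?_
      · rintro _ ⟨w, hw, rfl⟩
        have := hag ⟨w, hw⟩
        exact this.symm ▸ (e ⟨w, hw⟩).2
      · exact ⟨⟨(e.symm ⟨w, hw⟩ : X), hXN (e.symm ⟨w, hw⟩).2⟩, (e.symm ⟨w, hw⟩).2,
          (hag (e.symm ⟨w, hw⟩)).trans (congrArg Subtype.val (e.apply_symm_apply ⟨w, hw⟩))⟩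
    have hQ'T : Q' ≤ T := isConj_le_right hQQ'
    haveI : Finite Q' := finite_of_le hQ'T
    have hcomm : ∀ c ∈ normalizerIn T Q', c ∈ centralizerIn T Xf → c ∈ JA Q' := by
      intro c hcN hcC
      obtain ⟨A, hA⟩ := exists_isMax (R := Q')
      have hA' : IsMax (normalizerIn T Q') A := ⟨hA.le.trans (le_normalizerIn hQ'T), hA.comm,
        hA.card_eq.trans (le_antisymm (dA_mono (le_normalizerIn hQ'T)) hdQ')⟩
      exact hA.le_JA (hA'.mem_of_commute hcN fun a ha =>
        Subgroup.mem_centralizer_iff.1 hcC.2 a (hJQ' ▸ hA.le_JA ha))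
    have hCf : centralizerIn T Xf ≤ Q' :=
      centralizerIn_le_of_normalizer hTp hQ'T
        (Subgroup.le_normalizer.trans (hJQ' ▸ normalizer_le_normalizer_JA))
        fun c hc hcN => JA_le Q' (hcomm c ⟨hc.1, hcN⟩ hc)
    refine isCentric_of_isConj (isCentric_of_isFullyCentralized hTp hsat
      (isFullyCentralized_of_isFullyNormalized hTp hsat hXf) fun c hc => ?_) (isConj_symm hXXf)
    rw [← hJQ']
    exact hcomm c (le_normalizerIn hQ'T (hCf hc)) hc
  have hlX : level T X = level T R := by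
    rw [← hlQ, level, level, hdX, hJX]
  have hgX : Good E F (Subgroup.zpowers x) X := good_of_JA_eq hS hF hp hE hx hXc hJX hbase
    fun U hU hlU => hbig U hU (meas_lt_of_level hR (hlX ▸ hlU))
  exact fixAut_caseB hS hF hE hY inferInstance hQ hXc hXQ (fun β _ q hq' => JA_aut_mem β hq') hgX

/-- The second part of the theorem. -/
theorem centralizer_le_of_odd [Finite S] [Fact p.Prime] (hS : IsPGroup p S) (hp : p ≠ 2)
    (hF : F.IsSaturated p) (hE : E.IsNormalIn F p)
    (hCE : ∀ Y : Subgroup Ω, Y ≤ centralizerIn S T →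
      (∀ C : Cfsg.FusionSystem (centralizerIn S Y), F.IsCentralizerSystem Y C → E.IsSubsystemOf C) →
      Y ≤ T) :
    centralizerIn S T ≤ T := by
  intro x hx
  haveI := normal_finite hE
  have hTS := normal_le hE
  have hTp : IsPGroup p T := isPGroup_of_le hS hTS
  have hsat := normal_sat hE
  set X₀ := JA T with hX₀
  have hX₀T : X₀ ≤ T := JA_le T
  have hX₀S : S ≤ Subgroup.normalizer (X₀ : Set Ω) :=
    (stronglyClosed_le_normalizer (normal_strong hE)).trans normalizer_le_normalizer_JA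
  obtain ⟨hJJ, -⟩ := JA_idem (Q := T)
  have hJc : E.IsCentric X₀ := by
    refine ⟨hX₀T, fun R hR => ?_⟩
    obtain ⟨-, hl, -, hJR⟩ := conj_invariants hR
    rw [eq_JA_top (isConj_le_right hR) (hJR hJJ) hl]
    exact fun c hc => centralizer_JA_le hc.1 fun a ha => Subgroup.mem_centralizer_iff.1 hc.2 a ha
  have hN : normalizerIn T X₀ = T :=
    le_antisymm (normalizerIn_le T X₀) (le_inf le_rfl (hTS.trans hX₀S))
  have hX₀fn : E.IsFullyNormalized X₀ := ⟨hX₀T, fun R _ => by
    rw [hN]
    exact Nat.card_le_card_of_injective _ (Subgroup.inclusion_injective (normalizerIn_le T R))⟩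
  have hC₀S := centralizerIn_le S T
  have hnear : ∀ α ∈ E.autGroup X₀, α ∈ Near F (centralizerIn S T) X₀ := by
    intro α hα
    refine closure_subset_near (hX₀T.trans hTS) hC₀S (Set.Subset.refl _) α
      (autE_le_of_conjT hTp hsat hX₀fn (Subgroup.closure (Near F (centralizerIn S T) X₀)) ?_ ?_ hα)
    · intro β hβ a ha
      obtain ⟨t, ht, htT, rfl⟩ := exists_eq_conjAut ha
      exact Subgroup.subset_closure (conjT_near hS hF hE hJc le_rfl hβ htT ht)
    · intro β hβ hnorm
      obtain ⟨χ, hχ, hag⟩ := autE_extends hTp hsat hX₀fn hβ hX₀T (hN.ge)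
        fun a ha => hnorm a ha
      obtain ⟨γ, hγ, hγχ⟩ := exists_aut hχ (isConj_top_eq ⟨χ, hχ, rfl⟩)
      obtain ⟨ψ, hψ, hψT, hψC⟩ := top_near (Y := centralizerIn S T) hE le_rfl hγ
      refine Subgroup.subset_closure ⟨_, restrict_mem hψ (sup_le_sup_right hX₀T _),
        fun q => (hψT ⟨q, hX₀T q.2⟩).trans ((hγχ _).trans (hag q)), fun c => ?_⟩
      refine ⟨centralizerIn_le_of_isCentric hJc ⟨(hψC c).1,
        Subgroup.centralizer_le hX₀T (hψC c).2⟩, Subgroup.centralizer_le hX₀T (hψC c).2⟩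
  obtain ⟨x', hx', hxx', hfix⟩ := exists_adjust hS hF hE hX₀T hX₀S hnear hx
  have hgood := good_of_base hS hF hp hE hx' hfix
  have hY : Subgroup.zpowers x' ≤ centralizerIn S T := Subgroup.zpowers_le.2 hx'
  have hx'T := hCE _ hY (fun C hC => isSubsystemOf_centralizerSystem hE hY hgood C hC)
    (Subgroup.mem_zpowers x')
  have := T.mul_mem hx'T (T.inv_mem hxx')
  rwa [mul_inv_rev, inv_inv, mul_inv_cancel_left] at this

end CfsgLib.NormalCent
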